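import Groth.Agent.FlatMorGeom.FormallySmoothHom

/-! Formally étale morphisms: affine-locality and lifting along arbitrary first order thickenings. -/

universe u

namespace Groth.Agent.FlatMorGeom

open AlgebraicGeometry CategoryTheory Limits TopologicalSpace

variable {X Y : Scheme.{u}} {f : X ⟶ Y}

theorem formallyEtale_appLE_of_isFormallyEtaleHom (h : MoreMor.IsFormallyEtaleHom f) {U : X.Opens}
    {V : Y.Opens} (hU : IsAffineOpen U) (hV : IsAffineOpen V) (hUV : U ≤ f ⁻¹ᵁ V) :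
    letI := (f.appLE V U hUV).hom.toAlgebra
    Algebra.FormallyEtale Γ(Y, V) Γ(X, U) := by
  let := (f.appLE V U hUV).hom.toAlgebra
  have := formallyUnramified_of_isFormallyEtaleHom f h
  exact Algebra.FormallyEtale.iff_formallyUnramified_and_formallySmooth.2
    ⟨f.formallyUnramified_appLE hV hU hUV,
      formallySmooth_appLE_of_isFormallySmoothHom f (isFormallySmoothHom_of_isFormallyEtaleHom f h)
        hU hV hUV⟩

theorem isFormallyEtaleHom_of_appLE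
    (h : ∀ (U : X.Opens) (V : Y.Opens) (_ : IsAffineOpen U) (_ : IsAffineOpen V) (hUV : U ≤ f ⁻¹ᵁ V),
      letI := (f.appLE V U hUV).hom.toAlgebra
      Algebra.FormallyEtale Γ(Y, V) Γ(X, U)) :
    MoreMor.IsFormallyEtaleHom f := by
  intro A _ I hI a b w
  have : FormallyUnramified f := ⟨fun {V} hV {U} hU e => by
    let := (f.appLE V U e).hom.toAlgebra
    exact (Algebra.FormallyEtale.iff_formallyUnramified_and_formallySmooth.1 (h U V hU hV e)).1⟩
  obtain ⟨l, hl1, hl2⟩ := isFormallySmoothHom_of_appLE (fun U V hU hV e => by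
    let := (f.appLE V U e).hom.toAlgebra
    exact (Algebra.FormallyEtale.iff_formallyUnramified_and_formallySmooth.1 (h U V hU hV e)).2)
    A I hI a b w
  refine ⟨l, ⟨hl1, hl2⟩, fun l' ⟨h1, h2⟩ => ?_⟩
  haveI : IsClosedImmersion (Spec.map (CommRingCat.ofHom (Ideal.Quotient.mk I))) :=
    IsClosedImmersion.spec_of_surjective _ Ideal.Quotient.mk_surjective
  exact FormallyUnramified.hom_ext (Spec.map (CommRingCat.ofHom (Ideal.Quotient.mk I)))
    ⟨2, by rw [pow_two]; exact ker_SpecMap_sq _ (sq_ker_mk hI)⟩ f (h1.trans hl1.symm) (h2.trans hl2.symm)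

/-- Lifting along a first order thickening with affine target. -/
theorem existsUnique_lift_of_isAffine (hf : MoreMor.IsFormallyEtaleHom f) {T T' : Scheme.{u}}
    [IsAffine T'] (t : T ⟶ T') [IsClosedImmersion t] (ht : RingHom.ker t.appTop.hom ^ 2 = ⊥)
    (a : T ⟶ X) (b : T' ⟶ Y) (w : t ≫ b = a ≫ f) :
    ∃! l : T' ⟶ X, t ≫ l = a ∧ l ≫ f = b := by
  obtain ⟨hT, hsurj⟩ := IsClosedImmersion.isAffine_surjective_of_isAffine t
  let e := RingHom.quotientKerEquivOfSurjective (f := t.appTop.hom) hsurj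
  let eT : T ≅ Spec (CommRingCat.of (Γ(T', ⊤) ⧸ RingHom.ker t.appTop.hom)) :=
    T.isoSpec ≪≫ Scheme.Spec.mapIso e.toCommRingCatIso.op
  have het : eT.hom ≫ Spec.map (CommRingCat.ofHom (Ideal.Quotient.mk _)) = t ≫ T'.isoSpec.hom := by
    rw [← Scheme.isoSpec_hom_naturality]
    simp only [eT, Iso.trans_hom, Category.assoc, Functor.mapIso_hom, Iso.op_hom, Scheme.Spec_map,
      Quiver.Hom.unop_op]
    congr 1
    rw [← Spec.map_comp]
    rfl
  obtain ⟨l, ⟨h1, h2⟩, hl⟩ := hf Γ(T', ⊤) (RingHom.ker t.appTop.hom) ht (eT.inv ≫ a)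
    (T'.isoSpec.inv ≫ b) (by
      rw [← cancel_epi eT.hom, reassoc_of% het, Iso.hom_inv_id_assoc, w, Category.assoc,
        Iso.hom_inv_id_assoc])
  refine ⟨T'.isoSpec.hom ≫ l, ⟨?_, ?_⟩, fun l' ⟨hl1, hl2⟩ => ?_⟩
  · rw [← Category.assoc, ← het, Category.assoc, h1, Iso.hom_inv_id_assoc]
  · rw [Category.assoc, h2, Iso.hom_inv_id_assoc]
  · rw [← hl (T'.isoSpec.inv ≫ l') ⟨?_, ?_⟩, Iso.hom_inv_id_assoc]
    · rw [← cancel_epi eT.hom, reassoc_of% het, Iso.hom_inv_id_assoc, hl1, Iso.hom_inv_id_assoc]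
    · rw [Category.assoc, hl2]

theorem existsUnique_lift (hf : MoreMor.IsFormallyEtaleHom f) {T T' : Scheme.{u}}
    (t : T ⟶ T') (ht : MoreMor.IsFirstOrderThickening t) (a : T ⟶ X) (b : T' ⟶ Y) (w : t ≫ b = a ≫ f) :
    ∃! l : T' ⟶ X, t ≫ l = a ∧ l ≫ f = b := by
  obtain ⟨⟨hcl, -⟩, hsq⟩ := ht
  have key : ∀ W : T'.affineOpens, ∃! l : W.1.toScheme ⟶ X,
      (t ∣_ W.1) ≫ l = (t ⁻¹ᵁ W.1).ι ≫ a ∧ l ≫ f = W.1.ι ≫ b := by
    intro W
    haveI : IsAffine W.1.toScheme := W.2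
    haveI : IsClosedImmersion (t ∣_ W.1) :=
      IsZariskiLocalAtTarget.restrict (P := @IsClosedImmersion) inferInstance _
    refine existsUnique_lift_of_isAffine hf (t ∣_ W.1) ?_ _ _ ?_
    · have hW' : IsAffineOpen (W.1.ι ''ᵁ ⊤) := (isAffineOpen_top W.1.toScheme).image_of_isOpenImmersion _
      have hz0 : (t.ker * t.ker).ideal ⟨_, hW'⟩ = ⊥ := by
        rw [hsq, Scheme.IdealSheafData.ideal_bot]; rfl
      rw [Scheme.IdealSheafData.ideal_mul, Pi.mul_apply, Scheme.Hom.ker_apply] at hz0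
      rw [morphismRestrict_appTop, pow_two, eq_bot_iff, Ideal.mul_le]
      intro x hx y hy
      have hk : ∀ z, z ∈ RingHom.ker (t.app (W.1.ι ''ᵁ ⊤) ≫
          T.presheaf.map (eqToHom (image_morphismRestrict_preimage t W.1 ⊤)).op).hom →
          z ∈ RingHom.ker (t.app (W.1.ι ''ᵁ ⊤)).hom := fun z hz =>
        (ConcreteCategory.bijective_of_isIso
          (T.presheaf.map (eqToHom (image_morphismRestrict_preimage t W.1 ⊤)).op)).1
          (hz.trans (map_zero _).symm)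
      exact hz0.le (Ideal.mul_mem_mul (hk x hx) (hk y hy))
    · rw [morphismRestrict_ι_assoc, w, Category.assoc]
  choose lW hlW huniq using key
  have hres : ∀ (W W' : T'.affineOpens) (h : W'.1 ≤ W.1), T'.homOfLE h ≫ lW W = lW W' := by
    intro W W' h
    refine huniq W' _ ⟨?_, ?_⟩
    · have : (t ∣_ W'.1) ≫ T'.homOfLE h = T.homOfLE (t.preimage_mono h) ≫ (t ∣_ W.1) := by
        rw [← cancel_mono W.1.ι]; simp [morphismRestrict_ι]
      rw [reassoc_of% this, (hlW W).1, Scheme.homOfLE_ι_assoc]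
    · rw [Category.assoc, (hlW W).2, Scheme.homOfLE_ι_assoc]
  let 𝒰 := T'.openCoverOfIsOpenCover (fun W : T'.affineOpens => W.1) (iSup_affineOpens_eq_top T')
  have hglue : ∀ W W' : T'.affineOpens,
      pullback.fst W.1.ι W'.1.ι ≫ lW W = pullback.snd W.1.ι W'.1.ι ≫ lW W' := by
    intro W W'
    refine Scheme.hom_ext_of_forall _ _ fun z => ?_
    let P := pullback.fst W.1.ι W'.1.ι ≫ W.1.ι
    have hP : P = pullback.snd W.1.ι W'.1.ι ≫ W'.1.ι := pullback.condition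
    have hz : P z ∈ W.1 ⊓ W'.1 := by
      refine ⟨(pullback.fst W.1.ι W'.1.ι z).2, ?_⟩
      rw [hP]
      exact (pullback.snd W.1.ι W'.1.ι z).2
    obtain ⟨_, ⟨O, hO, rfl⟩, hzO, hOW⟩ :=
      T'.isBasis_affineOpens.exists_subset_of_mem_open hz (W.1 ⊓ W'.1).isOpen
    have hle : (⟨O, hO⟩ : T'.affineOpens).1 ≤ W.1 := fun q hq => (hOW hq).1
    have hle' : (⟨O, hO⟩ : T'.affineOpens).1 ≤ W'.1 := fun q hq => (hOW hq).2
    refine ⟨P ⁻¹ᵁ O, hzO, ?_⟩
    have h1 : (P ⁻¹ᵁ O).ι ≫ pullback.fst W.1.ι W'.1.ι = (P ∣_ O) ≫ T'.homOfLE hle := by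
      rw [← cancel_mono W.1.ι]
      simp only [Category.assoc, Scheme.homOfLE_ι, morphismRestrict_ι]
      rfl
    have h2 : (P ⁻¹ᵁ O).ι ≫ pullback.snd W.1.ι W'.1.ι = (P ∣_ O) ≫ T'.homOfLE hle' := by
      rw [← cancel_mono W'.1.ι]
      simp only [Category.assoc, Scheme.homOfLE_ι, morphismRestrict_ι, ← hP]
    rw [reassoc_of% h1, reassoc_of% h2, hres, hres]
  refine ⟨𝒰.glueMorphisms lW hglue, ⟨?_, ?_⟩, fun l ⟨hl1, hl2⟩ => ?_⟩
  · refine Scheme.hom_ext_of_forall _ _ fun z => ?_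
    obtain ⟨_, ⟨O, hO, rfl⟩, hzO, -⟩ :=
      T'.isBasis_affineOpens.exists_subset_of_mem_open (Set.mem_univ (t z)) isOpen_univ
    refine ⟨t ⁻¹ᵁ O, hzO, ?_⟩
    rw [← morphismRestrict_ι_assoc, ← (hlW ⟨O, hO⟩).1]
    congr 1
    exact 𝒰.ι_glueMorphisms lW hglue ⟨O, hO⟩
  · refine 𝒰.hom_ext _ _ fun W => ?_
    exact (Category.assoc _ _ _).symm.trans
      ((congrArg (· ≫ f) (𝒰.ι_glueMorphisms lW hglue W)).trans (hlW W).2)
  · refine 𝒰.hom_ext _ _ fun W => ?_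
    refine (huniq W _ ⟨?_, ?_⟩).trans (𝒰.ι_glueMorphisms lW hglue W).symm
    · show (t ∣_ W.1) ≫ W.1.ι ≫ l = _
      rw [morphismRestrict_ι_assoc, hl1]
    · show (W.1.ι ≫ l) ≫ f = _
      rw [Category.assoc, hl2]

end Groth.Agent.FlatMorGeom
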