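import Groth.Agent.FlatMorGeom.FormalLift
import Groth.Prelude.Def_MoreMor

/-! Formally smooth / formally étale morphisms of schemes are affine-locally so. -/

universe u

namespace Groth.Agent.FlatMorGeom

open AlgebraicGeometry CategoryTheory Limits TopologicalSpace

theorem ker_SpecMap_sq {B B'' : Type u} [CommRing B] [CommRing B''] (p : B →+* B'')
    (hp : RingHom.ker p ^ 2 = ⊥) :
    (Spec.map (CommRingCat.ofHom p)).ker * (Spec.map (CommRingCat.ofHom p)).ker = ⊥ := by
  refine Scheme.IdealSheafData.ext_of_iSup_eq_top (fun _ : PUnit.{1} => ⟨⊤, isAffineOpen_top _⟩)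
    (by simp) fun _ => ?_
  rw [Scheme.IdealSheafData.ideal_mul, Scheme.IdealSheafData.ideal_bot, Pi.mul_apply, Pi.bot_apply,
    Scheme.Hom.ker_apply, eq_bot_iff, Ideal.mul_le]
  intro x hx y hy
  rw [Ideal.mem_bot]
  have key : ∀ z : Γ(Spec (CommRingCat.of B), ⊤),
      z ∈ RingHom.ker ((Spec.map (CommRingCat.ofHom p)).app ⊤).hom →
      (Scheme.ΓSpecIso (CommRingCat.of B)).hom z ∈ RingHom.ker p := fun z hz => by
    have h1 := congrArg (fun m => m.hom z) (Scheme.ΓSpecIso_naturality (CommRingCat.ofHom p))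
    simp only [CommRingCat.hom_comp, RingHom.comp_apply, CommRingCat.hom_ofHom] at h1
    rw [RingHom.mem_ker] at hz ⊢
    rw [← h1]
    exact (congrArg _ hz).trans (map_zero _)
  have h0 : (Scheme.ΓSpecIso (CommRingCat.of B)).hom (x * y) = 0 := by
    have := Ideal.mul_mem_mul (key x hx) (key y hy)
    rw [← pow_two, hp, Ideal.mem_bot] at this
    rwa [map_mul]
  exact (Scheme.ΓSpecIso (CommRingCat.of B)).commRingCatIsoToRingEquiv.injective
    (h0.trans (map_zero _).symm)

/-- Morphisms through a thickening kill the square of the kernel. -/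
theorem mul_le_ker_of_le_ker_comp {P Q W : Scheme.{u}} (j : Q ⟶ P) [QuasiCompact j]
    (hj : j.ker * j.ker = ⊥) (m : P ⟶ W) {J : W.IdealSheafData} (hJ : J ≤ (j ≫ m).ker) :
    J * J ≤ m.ker := by
  refine Scheme.IdealSheafData.le_ofIdeals_iff.2 fun U => ?_
  rw [Scheme.IdealSheafData.ideal_mul, Pi.mul_apply, Ideal.mul_le]
  intro x hx y hy
  rw [RingHom.mem_ker]
  have hz : ∀ z ∈ J.ideal U, ((j ≫ m).app U).hom z = 0 := fun z hz =>
    RingHom.mem_ker.1 (Scheme.Hom.ideal_ker_le _ U (hJ U hz))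
  refine P.IsSheaf.section_ext fun q hq => ?_
  obtain ⟨_, ⟨O, hO, rfl⟩, hqO, hOU⟩ :=
    P.isBasis_affineOpens.exists_subset_of_mem_open hq (m ⁻¹ᵁ U.1).isOpen
  refine ⟨O, hOU, hqO, ?_⟩
  have hO' : ∀ z ∈ J.ideal U,
      (P.presheaf.map (homOfLE hOU).op).hom ((m.app U).hom z) ∈ j.ker.ideal ⟨O, hO⟩ := by
    intro z hz'
    rw [Scheme.Hom.ker_apply, RingHom.mem_ker]
    have h1 := congrArg (fun g => g.hom ((m.app U).hom z)) (j.naturality (homOfLE hOU).op)
    simp only [CommRingCat.hom_comp, RingHom.comp_apply] at h1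
    refine h1.trans ?_
    have h2 := hz z hz'
    simp only [Scheme.Hom.comp_app, CommRingCat.hom_comp, RingHom.comp_apply] at h2
    exact (congrArg _ h2).trans (map_zero _)
  have h3 := Ideal.mul_mem_mul (hO' x hx) (hO' y hy)
  rw [← Pi.mul_apply j.ker.ideal j.ker.ideal, ← Scheme.IdealSheafData.ideal_mul, hj,
    Scheme.IdealSheafData.ideal_bot, Pi.bot_apply, Ideal.mem_bot, ← map_mul, ← map_mul] at h3
  exact h3.trans (map_zero _).symm

theorem surjective_SpecMap {B B'' : Type u} [CommRing B] [CommRing B''] (p : B →+* B'')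
    (hp : Function.Surjective p) (hp2 : RingHom.ker p ^ 2 = ⊥) :
    Function.Surjective (Spec.map (CommRingCat.ofHom p)) := by
  intro z
  haveI := (z : PrimeSpectrum B).2
  have hle : RingHom.ker p ≤ (z : PrimeSpectrum B).asIdeal := fun a ha => by
    refine (z : PrimeSpectrum B).2.mem_of_pow_mem 2 ?_
    have : a ^ 2 ∈ RingHom.ker p ^ 2 := Ideal.pow_mem_pow ha 2
    rw [hp2, Ideal.mem_bot] at this
    rw [this]; exact zero_mem _
  refine ⟨⟨(z : PrimeSpectrum B).asIdeal.map p, Ideal.map_isPrime_of_surjective hp hle⟩,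
    PrimeSpectrum.ext ?_⟩
  show ((z : PrimeSpectrum B).asIdeal.map p).comap p = _
  rw [Ideal.comap_map_of_surjective p hp, ← RingHom.ker_eq_comap_bot, sup_eq_left.2 hle]

theorem sq_ker_mk {A : Type u} [CommRing A] {I : Ideal A} (hI : I ^ 2 = ⊥) :
    RingHom.ker (Ideal.Quotient.mk I) ^ 2 = ⊥ := by rw [Ideal.mk_ker, hI]

variable {X Y : Scheme.{u}} (f : X ⟶ Y)

/-- A lift of a point of an affine open, as a ring map. -/
theorem exists_ringHom_lift (h : MoreMor.IsFormallySmoothHom f) {U : X.Opens} {V : Y.Opens}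
    (hU : IsAffineOpen U) (hV : IsAffineOpen V) (hUV : U ≤ f ⁻¹ᵁ V) (A : Type u) [CommRing A]
    (I : Ideal A) (hI : I ^ 2 = ⊥) (ρ : Γ(Y, V) →+* A) (g : Γ(X, U) →+* A ⧸ I)
    (hg : g.comp (f.appLE V U hUV).hom = (Ideal.Quotient.mk I).comp ρ) :
    ∃ g' : Γ(X, U) →+* A, g'.comp (f.appLE V U hUV).hom = ρ ∧ (Ideal.Quotient.mk I).comp g' = g := by
  obtain ⟨l, hl1, hl2⟩ := h A I hI (Spec.map (CommRingCat.ofHom g) ≫ hU.fromSpec)
    (Spec.map (CommRingCat.ofHom ρ) ≫ hV.fromSpec) (by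
      rw [Category.assoc, ← hV.SpecMap_appLE_fromSpec f hU hUV, ← Spec.map_comp_assoc,
        ← Spec.map_comp_assoc, ← CommRingCat.ofHom_hom (f.appLE V U hUV), ← CommRingCat.ofHom_comp,
        ← CommRingCat.ofHom_comp, hg])
  haveI := hU.isOpenImmersion_fromSpec
  haveI := hV.isOpenImmersion_fromSpec
  have hrange : Set.range l ⊆ Set.range hU.fromSpec := by
    rintro _ ⟨z, rfl⟩
    obtain ⟨t, rfl⟩ := surjective_SpecMap _ Ideal.Quotient.mk_surjective (sq_ker_mk hI) z
    refine ⟨Spec.map (CommRingCat.ofHom g) t, ?_⟩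
    exact (congrArg (fun m => m.base t) hl1).symm
  let m := IsOpenImmersion.lift hU.fromSpec l hrange
  obtain ⟨g', hg'⟩ := Spec.map_surjective m
  refine ⟨g'.hom, ?_, ?_⟩
  · have : Spec.map (CommRingCat.ofHom (g'.hom.comp (f.appLE V U hUV).hom)) ≫ hV.fromSpec =
        Spec.map (CommRingCat.ofHom ρ) ≫ hV.fromSpec := by
      rw [CommRingCat.ofHom_comp, CommRingCat.ofHom_hom, CommRingCat.ofHom_hom, Spec.map_comp_assoc,
        hV.SpecMap_appLE_fromSpec f hU hUV, hg', IsOpenImmersion.lift_fac_assoc]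
      exact hl2
    exact congrArg CommRingCat.Hom.hom (Spec.map_injective ((cancel_mono hV.fromSpec).1 this))
  · have : Spec.map (CommRingCat.ofHom ((Ideal.Quotient.mk I).comp g'.hom)) ≫ hU.fromSpec =
        Spec.map (CommRingCat.ofHom g) ≫ hU.fromSpec := by
      rw [CommRingCat.ofHom_comp, CommRingCat.ofHom_hom, Spec.map_comp_assoc, hg',
        IsOpenImmersion.lift_fac]
      exact hl1
    exact congrArg CommRingCat.Hom.hom (Spec.map_injective ((cancel_mono hU.fromSpec).1 this))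

theorem formallySmooth_appLE_of_isFormallySmoothHom (h : MoreMor.IsFormallySmoothHom f) {U : X.Opens}
    {V : Y.Opens} (hU : IsAffineOpen U) (hV : IsAffineOpen V) (hUV : U ≤ f ⁻¹ᵁ V) :
    letI := (f.appLE V U hUV).hom.toAlgebra
    Algebra.FormallySmooth Γ(Y, V) Γ(X, U) := by
  let := (f.appLE V U hUV).hom.toAlgebra
  refine Algebra.FormallySmooth.iff_comp_surjective.2 fun B _ _ I hI g => ?_
  obtain ⟨g', h1, h2⟩ := exists_ringHom_lift f h hU hV hUV B I hI (algebraMap _ B) g.toRingHom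
    g.comp_algebraMap
  exact ⟨{ g' with commutes' := fun r => RingHom.congr_fun h1 r }, AlgHom.ext fun x =>
    RingHom.congr_fun h2 x⟩

theorem isFormallySmoothHom_of_isFormallyEtaleHom (h : MoreMor.IsFormallyEtaleHom f) :
    MoreMor.IsFormallySmoothHom f := fun A _ I hI a b w => (h A I hI a b w).exists

theorem formallyUnramified_of_isFormallyEtaleHom (h : MoreMor.IsFormallyEtaleHom f) :
    FormallyUnramified f := by
  refine .of_hom_ext f fun R S φ hφ hker g₁ g₂ h1 h2 => ?_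
  let I := RingHom.ker φ.hom
  let e : R ⧸ I ≃+* S := RingHom.quotientKerEquivOfSurjective hφ
  have hfac : φ = CommRingCat.ofHom (Ideal.Quotient.mk I) ≫ CommRingCat.ofHom e.toRingHom :=
    CommRingCat.hom_ext (RingHom.ext fun x => rfl)
  have hiso : IsIso (Spec.map (CommRingCat.ofHom e.toRingHom)) := by
    have : IsIso (CommRingCat.ofHom e.toRingHom) :=
      inferInstanceAs (IsIso e.toCommRingCatIso.hom)
    infer_instance
  rw [hfac, Spec.map_comp, Category.assoc, Category.assoc, cancel_epi] at h1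
  have w : Spec.map (CommRingCat.ofHom (Ideal.Quotient.mk I)) ≫ (g₁ ≫ f) =
      (Spec.map (CommRingCat.ofHom (Ideal.Quotient.mk I)) ≫ g₁) ≫ f := (Category.assoc _ _ _).symm
  obtain ⟨l, -, hl⟩ := h R I hker (Spec.map (CommRingCat.ofHom (Ideal.Quotient.mk I)) ≫ g₁) (g₁ ≫ f) w
  exact (hl g₁ ⟨rfl, rfl⟩).trans (hl g₂ ⟨h1.symm, h2.symm⟩).symm

section Converse

variable {f}

/-- Local data: a neighbourhood of a point of the base on which the lifting problem is affine. -/
theorem exists_local_data {A : Type u} [CommRing A] {I : Ideal A} (hI : I ^ 2 = ⊥)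
    (a : Spec (CommRingCat.of (A ⧸ I)) ⟶ X) (b : Spec (CommRingCat.of A) ⟶ Y)
    (w : Spec.map (CommRingCat.ofHom (Ideal.Quotient.mk I)) ≫ b = a ≫ f)
    (t : PrimeSpectrum A) :
    ∃ (g : A) (U : X.Opens) (V : Y.Opens), IsAffineOpen U ∧ IsAffineOpen V ∧ U ≤ f ⁻¹ᵁ V ∧
      g ∉ t.asIdeal ∧ PrimeSpectrum.basicOpen g ≤ b ⁻¹ᵁ V ∧
      Spec.map (CommRingCat.ofHom (Ideal.Quotient.mk I)) ⁻¹ᵁ PrimeSpectrum.basicOpen g ≤ a ⁻¹ᵁ U := by
  set i := Spec.map (CommRingCat.ofHom (Ideal.Quotient.mk I))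
  haveI : IsClosedImmersion i := IsClosedImmersion.spec_of_surjective _ Ideal.Quotient.mk_surjective
  obtain ⟨t', rfl⟩ := surjective_SpecMap _ Ideal.Quotient.mk_surjective (sq_ker_mk hI) t
  obtain ⟨_, ⟨V, hV, rfl⟩, htV, -⟩ :=
    Y.isBasis_affineOpens.exists_subset_of_mem_open (Set.mem_univ (b (i t'))) isOpen_univ
  have hfa : f (a t') = b (i t') := (congrArg (fun m => m.base t') w).symm
  obtain ⟨_, ⟨U, hU, rfl⟩, htU, hUV⟩ :=
    X.isBasis_affineOpens.exists_subset_of_mem_open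
      (show a t' ∈ f ⁻¹ᵁ V by show f (a t') ∈ V; rw [hfa]; exact htV) (f ⁻¹ᵁ V).isOpen
  have hemb : Topology.IsEmbedding i := i.isClosedEmbedding.isEmbedding
  obtain ⟨O, hO, hOeq⟩ := hemb.isInducing.isOpen_iff.1 (a ⁻¹ᵁ U).2
  have htO : i t' ∈ O := by
    have : t' ∈ i ⁻¹' O := by rw [hOeq]; exact htU
    exact this
  obtain ⟨_, ⟨g, rfl⟩, hgt, hgO⟩ := PrimeSpectrum.isTopologicalBasis_basic_opens.exists_subset_of_mem_open
    (show i t' ∈ O ∩ (b ⁻¹ᵁ V : Set _) from ⟨htO, htV⟩) (hO.inter (b ⁻¹ᵁ V).2)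
  exact ⟨g, U, V, hU, hV, hUV, hgt, fun z hz => (hgO hz).2, fun z hz => by
    have : z ∈ i ⁻¹' O := (hgO hz).1
    rw [hOeq] at this
    exact this⟩

theorem span_range_eq_top {A : Type u} [CommRing A] (g : PrimeSpectrum A → A)
    (hg : ∀ t, g t ∉ t.asIdeal) : Ideal.span (Set.range g) = ⊤ := by
  by_contra hne
  obtain ⟨M, hM, hle⟩ := Ideal.exists_le_maximal _ hne
  exact hg ⟨M, hM.isPrime⟩ (hle (Ideal.subset_span ⟨_, rfl⟩))

theorem isFormallySmoothHom_of_appLE
    (h : ∀ (U : X.Opens) (V : Y.Opens) (_ : IsAffineOpen U) (_ : IsAffineOpen V) (hUV : U ≤ f ⁻¹ᵁ V),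
      letI := (f.appLE V U hUV).hom.toAlgebra
      Algebra.FormallySmooth Γ(Y, V) Γ(X, U)) :
    MoreMor.IsFormallySmoothHom f := by
  intro A _ I hI a b w
  set i := Spec.map (CommRingCat.ofHom (Ideal.Quotient.mk I)) with hi
  haveI : IsClosedImmersion i := IsClosedImmersion.spec_of_surjective _ Ideal.Quotient.mk_surjective
  choose g U V hU hV hUV hgt hgV hgU using exists_local_data hI a b w
  let Z := pullback f b
  let s : Spec (CommRingCat.of (A ⧸ I)) ⟶ Z := pullback.lift a i w.symm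
  let D : PrimeSpectrum A → (Spec (CommRingCat.of A)).Opens := fun t => PrimeSpectrum.basicOpen (g t)
  have hD : ∀ t, IsAffineOpen (D t) := fun t => by exact IsAffineOpen.Spec_basicOpen (R := CommRingCat.of A) (g t)
  let Zt : PrimeSpectrum A → Z.Opens := fun t => pullback.fst f b ⁻¹ᵁ U t ⊓ pullback.snd f b ⁻¹ᵁ D t
  have hZt : ∀ t, IsAffineOpen (Zt t) := by
    intro t
    haveI : IsAffine (U t).toScheme := hU t
    haveI : IsAffine (V t).toScheme := hV t
    haveI : IsAffine (D t).toScheme := hD t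
    let j := pullback.map (f.resLE (V t) (U t) (hUV t)) (b.resLE (V t) (D t) (hgV t)) f b
      (U t).ι (D t).ι (V t).ι (Scheme.Hom.resLE_comp_ι _ _) (Scheme.Hom.resLE_comp_ι _ _)
    have : j.opensRange = Zt t := by
      ext1
      rw [Scheme.Hom.coe_opensRange, Scheme.Pullback.range_map, Scheme.Opens.range_ι,
        Scheme.Opens.range_ι]
      rfl
    rw [← this]
    exact isAffineOpen_opensRange j
  let W : Z.Opens := ⨆ t, Zt t
  have hsmem : ∀ τ, ∃ t, s τ ∈ Zt t := fun τ => by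
    refine ⟨i τ, ?_, ?_⟩
    · show pullback.fst f b (s τ) ∈ U (i τ)
      rw [← Scheme.Hom.comp_apply, pullback.lift_fst]
      exact hgU (i τ) (show i τ ∈ D (i τ) from hgt (i τ))
    · show pullback.snd f b (s τ) ∈ D (i τ)
      rw [← Scheme.Hom.comp_apply, pullback.lift_snd]
      exact hgt (i τ)
  have hsW : Set.range s ⊆ Set.range W.ι := by
    rintro _ ⟨τ, rfl⟩
    rw [Scheme.Opens.range_ι]
    obtain ⟨t, ht⟩ := hsmem τ
    exact Opens.mem_iSup.2 ⟨t, ht⟩
  let sW : Spec (CommRingCat.of (A ⧸ I)) ⟶ W.toScheme := IsOpenImmersion.lift W.ι s hsW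
  let qt : W.toScheme ⟶ Spec (CommRingCat.of A) := W.ι ≫ pullback.snd f b
  have hsq : sW ≫ qt = i := by
    rw [show sW ≫ qt = s ≫ pullback.snd f b by simp [sW, qt]]
    exact pullback.lift_snd _ _ _
  have hsfst : sW ≫ W.ι ≫ pullback.fst f b = a := by
    rw [show sW ≫ W.ι ≫ pullback.fst f b = s ≫ pullback.fst f b by simp [sW]]
    exact pullback.lift_fst _ _ _
  let Wt : PrimeSpectrum A → W.toScheme.Opens := fun t => W.ι ⁻¹ᵁ Zt t
  have hWt : ∀ t, IsAffineOpen (Wt t) := fun t => by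
    rw [← Scheme.Hom.isAffineOpen_iff_of_isOpenImmersion W.ι, Scheme.Hom.image_preimage_eq_opensRange_inf,
      Scheme.Opens.opensRange_ι, inf_eq_right.2 (le_iSup Zt t)]
    exact hZt t
  have hWtop : ⨆ t, Wt t = ⊤ := by
    rw [eq_top_iff]
    intro z _
    obtain ⟨t, ht⟩ := Opens.mem_iSup.1 (show W.ι z ∈ W from z.2)
    exact Opens.mem_iSup.2 ⟨t, ht⟩
  have hWtD : ∀ t, Wt t ≤ qt ⁻¹ᵁ D t := fun t z hz => hz.2
  have hpre : ∀ t, sW ⁻¹ᵁ Wt t = i ⁻¹ᵁ D t := fun t => by
    ext τ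
    constructor
    · intro hτ
      show i τ ∈ D t
      rw [← hsq]; exact hWtD t hτ
    · intro hτ
      refine ⟨?_, ?_⟩
      · show pullback.fst f b (W.ι (sW τ)) ∈ U t
        rw [← Scheme.Hom.comp_apply, ← Scheme.Hom.comp_apply, hsfst]
        exact hgU t hτ
      · show qt (sW τ) ∈ D t
        rw [← Scheme.Hom.comp_apply, hsq]; exact hτ
  haveI hcl : IsClosedImmersion sW := by
    refine (IsZariskiLocalAtTarget.iff_of_iSup_eq_top (P := @IsClosedImmersion) (U := Wt) hWtop).2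
      fun t => ?_
    have e : i ⁻¹ᵁ D t = sW ⁻¹ᵁ Wt t := (hpre t).symm
    have hcomp : (sW ∣_ Wt t) ≫ qt.resLE (D t) (Wt t) (hWtD t) =
        (Scheme.isoOfEq _ e.symm).hom ≫ (i ∣_ D t) := by
      rw [← cancel_mono (D t).ι]
      simp [morphismRestrict_ι, hsq]
    haveI : IsAffine (Wt t).toScheme := hWt t
    haveI : IsAffine (D t).toScheme := hD t
    haveI : IsClosedImmersion (i ∣_ D t) :=
      IsZariskiLocalAtTarget.restrict (P := @IsClosedImmersion) inferInstance _
    haveI : IsClosedImmersion ((sW ∣_ Wt t) ≫ qt.resLE (D t) (Wt t) (hWtD t)) := by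
      rw [hcomp]; infer_instance
    exact IsClosedImmersion.of_comp (sW ∣_ Wt t) (qt.resLE (D t) (Wt t) (hWtD t))
  -- the first order neighbourhood
  set J := sW.ker with hJ
  let κ : (J * J).subscheme ⟶ W.toScheme := (J * J).subschemeι
  let qE : (J * J).subscheme ⟶ Spec (CommRingCat.of A) := κ ≫ qt
  let sE : Spec (CommRingCat.of (A ⧸ I)) ⟶ (J * J).subscheme :=
    IsClosedImmersion.lift κ sW (by
      rw [Scheme.IdealSheafData.ker_subschemeι]
      exact fun U => by
        rw [Scheme.IdealSheafData.ideal_mul, Pi.mul_apply]; exact Ideal.mul_le_right)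
  have hsE : sE ≫ κ = sW := IsClosedImmersion.lift_fac _ _ _
  have hsEq : sE ≫ qE = i := by rw [← Category.assoc, hsE, hsq]
  have hrange : ∀ e : (J * J).subscheme, ∃ τ, sW τ = κ e := by
    intro e
    have : κ e ∈ ((J * J).support : Set W.toScheme) := by
      rw [← Scheme.IdealSheafData.range_subschemeι]; exact ⟨e, rfl⟩
    rw [Scheme.IdealSheafData.support_mul] at this
    have h' : κ e ∈ (sW.ker.support : Set W.toScheme) := by
      rcases this with h | h <;> exact h
    rw [Scheme.Hom.support_ker, sW.isClosedEmbedding.isClosed_range.closure_eq] at h'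
    exact h'
  have hpreE : ∀ t, qE ⁻¹ᵁ D t = κ ⁻¹ᵁ Wt t := fun t => by
    ext e
    refine ⟨fun he => ?_, fun he => hWtD t he⟩
    obtain ⟨τ, hτ⟩ := hrange e
    have : i τ ∈ D t := by
      rw [← hsq, Scheme.Hom.comp_apply, hτ]; exact he
    have h2 : τ ∈ sW ⁻¹ᵁ Wt t := by rw [hpre]; exact this
    show κ e ∈ Wt t
    rw [← hτ]; exact h2
  -- affineness
  let γ : A → Γ((J * J).subscheme, ⊤) := fun x =>
    qE.appTop ((Scheme.ΓSpecIso (CommRingCat.of A)).inv x)
  have hbasic : ∀ t, ((J * J).subscheme).basicOpen (γ (g t)) = qE ⁻¹ᵁ D t := fun t => by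
    show ((J * J).subscheme).basicOpen (qE.app ⊤ _) = _
    rw [← Scheme.preimage_basicOpen, basicOpen_eq_of_affine]
  have hκt : ∀ t, IsAffineOpen (qE ⁻¹ᵁ D t) := fun t => by
    rw [hpreE]; exact (hWt t).preimage κ
  haveI : IsAffine (J * J).subscheme := by
    refine isAffine_of_isAffineOpen_basicOpen (γ '' Set.range g) ?_ ?_
    · have : γ '' Set.range g = (qE.appTop.hom.comp (Scheme.ΓSpecIso (CommRingCat.of A)).inv.hom) ''
          Set.range g := rfl
      rw [this, ← Ideal.map_span, span_range_eq_top g hgt, Ideal.map_top]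
    · rintro _ ⟨_, ⟨t, rfl⟩, rfl⟩
      rw [hbasic]; exact hκt t
  let E := (J * J).subscheme
  let R := Γ(E, ⊤)
  let ι : A →+* R := (Spec.preimage (E.isoSpec.inv ≫ qE)).hom
  let σ : R →+* A ⧸ I := (sE.appTop ≫ (Scheme.ΓSpecIso (CommRingCat.of (A ⧸ I))).hom).hom
  have hι : Spec.map (CommRingCat.ofHom ι) = E.isoSpec.inv ≫ qE := Spec.map_preimage _
  have hσ : Spec.map (CommRingCat.ofHom σ) ≫ E.isoSpec.inv = sE := by
    rw [Iso.comp_inv_eq, Scheme.isoSpec_hom, Scheme.toSpecΓ_naturality, ← SpecMap_ΓSpecIso_hom,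
      ← Spec.map_comp]
    rfl
  have hσι : σ.comp ι = Ideal.Quotient.mk I := by
    refine congrArg CommRingCat.Hom.hom (Spec.map_injective (R := CommRingCat.of A)
      (S := CommRingCat.of (A ⧸ I)) (a₁ := CommRingCat.ofHom (σ.comp ι))
      (a₂ := CommRingCat.ofHom (Ideal.Quotient.mk I)) ?_)
    rw [CommRingCat.ofHom_comp, Spec.map_comp, hι, ← Category.assoc, hσ, hsEq]
  have hσ2 : RingHom.ker σ ^ 2 = ⊥ := by
    rw [pow_two, eq_bot_iff, Ideal.mul_le]
    intro x hx y hy
    rw [Ideal.mem_bot]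
    have hk : ∀ z, z ∈ RingHom.ker σ → sE.appTop z = 0 := fun z hz =>
      (Scheme.ΓSpecIso (CommRingCat.of (A ⧸ I))).commRingCatIsoToRingEquiv.injective
        ((RingHom.mem_ker.1 hz).trans (map_zero _).symm)
    refine E.IsSheaf.section_ext fun e _ => ?_
    obtain ⟨t, ht⟩ : ∃ t, κ e ∈ Wt t := by
      have : κ e ∈ (⊤ : W.toScheme.Opens) := trivial
      rw [← hWtop] at this
      exact Opens.mem_iSup.1 this
    refine ⟨κ ⁻¹ᵁ Wt t, le_top, ht, ?_⟩
    have hlift : ∀ z, z ∈ RingHom.ker σ → ∃ z' ∈ J.ideal ⟨Wt t, hWt t⟩,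
        (κ.app (Wt t)).hom z' = (E.presheaf.map (homOfLE le_top).op).hom z := by
      intro z hz
      obtain ⟨z', hz'⟩ := Scheme.IdealSheafData.subschemeι_app_surjective (J * J) ⟨Wt t, hWt t⟩
        ((E.presheaf.map (homOfLE (le_top : κ ⁻¹ᵁ Wt t ≤ ⊤)).op).hom z)
      refine ⟨z', ?_, hz'⟩
      rw [hJ, Scheme.Hom.ker_apply, RingHom.mem_ker]
      have h1 : (sE.app (κ ⁻¹ᵁ Wt t)).hom ((κ.app (Wt t)).hom z') = 0 := by
        refine (congrArg _ hz').trans ?_
        have h2 := congrArg (fun m => m.hom z)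
          (sE.naturality (homOfLE (le_top : κ ⁻¹ᵁ Wt t ≤ ⊤)).op)
        simp only [CommRingCat.hom_comp, RingHom.comp_apply] at h2
        exact h2.trans ((congrArg _ (hk z hz)).trans (map_zero _))
      have h3 : ∀ m : Spec (CommRingCat.of (A ⧸ I)) ⟶ W.toScheme, m = sW →
          (m.app (Wt t)).hom z' = 0 → (sW.app (Wt t)).hom z' = 0 := by
        rintro m rfl hm; exact hm
      exact h3 (sE ≫ κ) hsE h1
    obtain ⟨x', hx', hxe⟩ := hlift x hx
    obtain ⟨y', hy', hye⟩ := hlift y hy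
    rw [map_zero]
    refine (map_mul _ _ _).trans ?_
    rw [← hxe, ← hye, ← map_mul]
    have : x' * y' ∈ RingHom.ker (κ.app (Wt t)).hom := by
      rw [Scheme.IdealSheafData.ker_subschemeι_app (J * J) ⟨Wt t, hWt t⟩,
        Scheme.IdealSheafData.ideal_mul, Pi.mul_apply]
      exact Ideal.mul_mem_mul hx' hy'
    exact this
  have hL : ∀ x ∈ Set.range g, HasLocalLift I ι σ x := by
    rintro _ ⟨t, rfl⟩ B B'' _ _ β p π hh hgu hp hπ2 hπβ hhι hπh
    have hp2 : RingHom.ker p ^ 2 = ⊥ := by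
      refine le_bot_iff.1 (le_trans (Ideal.pow_right_mono ?_ 2) hπ2.le)
      intro z hz
      simp [RingHom.mem_ker.1 hz]
    set e'' := Spec.map (CommRingCat.ofHom hh) ≫ E.isoSpec.inv with he''
    have he''q : e'' ≫ qE = Spec.map (CommRingCat.ofHom p) ≫ Spec.map (CommRingCat.ofHom β) := by
      rw [he'', Category.assoc, ← hι, ← Spec.map_comp, ← Spec.map_comp, ← CommRingCat.ofHom_comp,
        ← CommRingCat.ofHom_comp, hhι]
    have hgβ : Set.range (Spec.map (CommRingCat.ofHom β)) ⊆ (D t : Set _) := by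
      rintro _ ⟨q, rfl⟩
      show β (g t) ∉ q.asIdeal
      exact fun hq => q.2.ne_top (Ideal.eq_top_of_isUnit_mem _ hq hgu)
    have he''mem : ∀ q, κ (e'' q) ∈ Wt t := fun q => by
      have : e'' q ∈ qE ⁻¹ᵁ D t := by
        show qE (e'' q) ∈ D t
        rw [← Scheme.Hom.comp_apply, he''q]
        exact hgβ ⟨_, rfl⟩
      rw [hpreE] at this
      exact this
    -- ring maps
    haveI := (hU t).isOpenImmersion_fromSpec
    haveI := (hV t).isOpenImmersion_fromSpec
    let eX := e'' ≫ κ ≫ W.ι ≫ pullback.fst f b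
    have heX : Set.range eX ⊆ Set.range (hU t).fromSpec := by
      rw [(hU t).range_fromSpec]
      rintro _ ⟨q, rfl⟩
      exact (he''mem q).1
    obtain ⟨ρU, hρU⟩ := Spec.map_surjective (IsOpenImmersion.lift (hU t).fromSpec eX heX)
    have hbV : Set.range (Spec.map (CommRingCat.ofHom β) ≫ b) ⊆ Set.range (hV t).fromSpec := by
      rw [(hV t).range_fromSpec]
      rintro _ ⟨q, rfl⟩
      exact hgV t (hgβ ⟨q, rfl⟩)
    obtain ⟨ρV, hρV⟩ := Spec.map_surjective (IsOpenImmersion.lift (hV t).fromSpec _ hbV)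
    have heXf : eX ≫ f = Spec.map (CommRingCat.ofHom p) ≫ Spec.map (CommRingCat.ofHom β) ≫ b := by
      simp only [eX, Category.assoc, pullback.condition]
      rw [← Category.assoc (Spec.map (CommRingCat.ofHom p)), ← he''q]
      simp [qE, qt]
    let := (f.appLE (V t) (U t) (hUV t)).hom.toAlgebra
    let := ρV.hom.toAlgebra
    let := (p.comp ρV.hom).toAlgebra
    have hcomp : ρU.hom.comp (f.appLE (V t) (U t) (hUV t)).hom = p.comp ρV.hom := by
      refine congrArg CommRingCat.Hom.hom (Spec.map_injective (R := Γ(Y, V t)) (S := CommRingCat.of B'')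
        (a₁ := CommRingCat.ofHom (ρU.hom.comp (f.appLE (V t) (U t) (hUV t)).hom))
        (a₂ := CommRingCat.ofHom (p.comp ρV.hom)) ?_)
      rw [← cancel_mono (hV t).fromSpec, CommRingCat.ofHom_comp, CommRingCat.ofHom_comp,
        CommRingCat.ofHom_hom, CommRingCat.ofHom_hom, CommRingCat.ofHom_hom, Spec.map_comp_assoc,
        Spec.map_comp_assoc, (hV t).SpecMap_appLE_fromSpec f (hU t) (hUV t), hρU,
        IsOpenImmersion.lift_fac_assoc, hρV, IsOpenImmersion.lift_fac, heXf]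
    haveI : Algebra.FormallySmooth Γ(Y, V t) Γ(X, U t) := h _ _ (hU t) (hV t) (hUV t)
    let pA : B →ₐ[Γ(Y, V t)] B'' := { p with commutes' := fun _ => rfl }
    let uA : Γ(X, U t) →ₐ[Γ(Y, V t)] B'' :=
      { ρU.hom with commutes' := fun r => RingHom.congr_fun hcomp r }
    let ν := Algebra.FormallySmooth.liftOfSurjective uA pA hp ⟨2, hp2⟩
    have hν : pA.comp ν = uA := Algebra.FormallySmooth.comp_liftOfSurjective uA pA hp ⟨2, hp2⟩
    let mX := Spec.map (CommRingCat.ofHom ν.toRingHom) ≫ (hU t).fromSpec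
    have hmXf : mX ≫ f = Spec.map (CommRingCat.ofHom β) ≫ b := by
      rw [Category.assoc, ← (hV t).SpecMap_appLE_fromSpec f (hU t) (hUV t), ← Spec.map_comp_assoc]
      have : f.appLE (V t) (U t) (hUV t) ≫ CommRingCat.ofHom ν.toRingHom = ρV :=
        CommRingCat.hom_ext ν.comp_algebraMap
      rw [this, hρV, IsOpenImmersion.lift_fac]
    let mZ : Spec (CommRingCat.of B) ⟶ Z := pullback.lift mX (Spec.map (CommRingCat.ofHom β)) hmXf
    have hmZW : Set.range mZ ⊆ Set.range W.ι := by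
      rw [Scheme.Opens.range_ι]
      rintro _ ⟨q, rfl⟩
      refine Opens.mem_iSup.2 ⟨t, ?_, ?_⟩
      · show pullback.fst f b (mZ q) ∈ U t
        rw [← Scheme.Hom.comp_apply, pullback.lift_fst]
        have : (hU t).fromSpec (Spec.map (CommRingCat.ofHom ν.toRingHom) q) ∈ Set.range (hU t).fromSpec :=
          ⟨_, rfl⟩
        rw [(hU t).range_fromSpec] at this
        exact this
      · show pullback.snd f b (mZ q) ∈ D t
        rw [← Scheme.Hom.comp_apply, pullback.lift_snd]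
        exact hgβ ⟨q, rfl⟩
    let mW := IsOpenImmersion.lift W.ι mZ hmZW
    have hpm : Spec.map (CommRingCat.ofHom p) ≫ mW = e'' ≫ κ := by
      rw [← cancel_mono W.ι, Category.assoc, IsOpenImmersion.lift_fac]
      refine pullback.hom_ext ?_ ?_
      · rw [Category.assoc, pullback.lift_fst, ← Spec.map_comp_assoc, ← CommRingCat.ofHom_comp]
        have : p.comp ν.toRingHom = ρU.hom := congrArg AlgHom.toRingHom hν
        rw [this, CommRingCat.ofHom_hom, hρU, IsOpenImmersion.lift_fac]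
        simp [eX]
      · rw [Category.assoc, pullback.lift_snd, ← he''q]
        simp [qE, qt]
    have hker : J * J ≤ mW.ker := by
      refine mul_le_ker_of_le_ker_comp (Spec.map (CommRingCat.ofHom (π.comp p)))
        (ker_SpecMap_sq _ hπ2) mW ?_
      have : Spec.map (CommRingCat.ofHom (π.comp p)) ≫ mW =
          Spec.map (CommRingCat.ofHom (algebraMap (A ⧸ I) _)) ≫ sW := by
        rw [CommRingCat.ofHom_comp, Spec.map_comp, Category.assoc, hpm, ← hsE, he'', ← hσ]
        simp only [← Category.assoc, ← Spec.map_comp, ← CommRingCat.ofHom_comp, hπh]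
      rw [this]
      exact Scheme.Hom.le_ker_comp _ _
    let e := IsClosedImmersion.lift κ mW (by rw [Scheme.IdealSheafData.ker_subschemeι]; exact hker)
    have he : e ≫ κ = mW := IsClosedImmersion.lift_fac _ _ _
    refine ⟨(Spec.preimage (e ≫ E.isoSpec.hom)).hom, ?_, ?_⟩
    · refine congrArg CommRingCat.Hom.hom (Spec.map_injective (R := CommRingCat.of A)
        (S := CommRingCat.of B) (a₁ := CommRingCat.ofHom ((Spec.preimage (e ≫ E.isoSpec.hom)).hom.comp ι))
        (a₂ := CommRingCat.ofHom β) ?_)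
      rw [CommRingCat.ofHom_comp, Spec.map_comp, hι, CommRingCat.ofHom_hom, Spec.map_preimage]
      simp only [Category.assoc, Iso.hom_inv_id_assoc]
      simp [qE, qt, reassoc_of% he, mW, mZ]
      exact pullback.lift_snd _ _ _
    · refine congrArg CommRingCat.Hom.hom (Spec.map_injective (R := CommRingCat.of R)
        (S := CommRingCat.of B'') (a₁ := CommRingCat.ofHom (p.comp (Spec.preimage (e ≫ E.isoSpec.hom)).hom))
        (a₂ := CommRingCat.ofHom hh) ?_)
      rw [CommRingCat.ofHom_comp, CommRingCat.ofHom_hom, Spec.map_comp, Spec.map_preimage,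
        ← cancel_mono E.isoSpec.inv, ← he'']
      simp only [Category.assoc, Iso.hom_inv_id, Category.comp_id]
      rw [← cancel_mono κ, Category.assoc, he, hpm]
  obtain ⟨r, hr1, hr2⟩ := exists_retraction hI ι σ hσι hσ2 (Set.range g) (span_range_eq_top g hgt) hL
  refine ⟨Spec.map (CommRingCat.ofHom r) ≫ E.isoSpec.inv ≫ κ ≫ W.ι ≫ pullback.fst f b, ?_, ?_⟩
  · rw [← Spec.map_comp_assoc, ← CommRingCat.ofHom_comp, hr2, ← Category.assoc (Spec.map _), hσ,
      ← Category.assoc sE, hsE, hsfst]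
  · have : Spec.map (CommRingCat.ofHom r) ≫ E.isoSpec.inv ≫ qE = 𝟙 _ := by
      rw [← hι, ← Spec.map_comp, ← CommRingCat.ofHom_comp, hr1, CommRingCat.ofHom_id, Spec.map_id]
    simp only [Category.assoc, pullback.condition]
    rw [show κ ≫ W.ι ≫ pullback.snd f b ≫ b = qE ≫ b by simp [qE, qt], reassoc_of% this]

end Converse

end Groth.Agent.FlatMorGeom
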