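import Mathlib

/-! Closed points of the generic fibre specializing to a given closed point of the special fibre. -/

universe u v

namespace Groth.Agent.FlatMorGeom

open MvPolynomial IsLocalRing

theorem isIntegrallyClosed_mvPolynomial_fin (W : Type u) [CommRing W] [IsDomain W]
    [IsIntegrallyClosed W] : ∀ e : ℕ, IsIntegrallyClosed (MvPolynomial (Fin e) W)
  | 0 => IsIntegrallyClosed.of_equiv (MvPolynomial.isEmptyRingEquiv W (Fin 0)).symm
  | e + 1 => by
    have := isIntegrallyClosed_mvPolynomial_fin W e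
    exact IsIntegrallyClosed.of_equiv (MvPolynomial.finSuccEquiv W e).symm.toRingEquiv

theorem isAlgClosed_residueField {L : Type u} [Field L] [IsAlgClosed L] (V : ValuationSubring L) :
    IsAlgClosed (ResidueField V) := by
  refine IsAlgClosed.of_exists_root _ fun p hp hirr => ?_
  obtain ⟨q, hq, hdeg, hqm⟩ := Polynomial.lifts_and_degree_eq_and_monic
    (Polynomial.map_surjective (residue V) residue_surjective p) hp
  obtain ⟨x, hx⟩ := IsAlgClosed.exists_root (q.map (algebraMap V L)) (by
    rw [(hqm.degree_map _), hdeg]; exact (Polynomial.degree_pos_of_irreducible hirr).ne')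
  have hint : IsIntegral V x := ⟨q, hqm, by rwa [Polynomial.eval₂_eq_eval_map]⟩
  obtain ⟨y, rfl⟩ := IsIntegrallyClosed.isIntegral_iff.1 hint
  refine ⟨residue V y, ?_⟩
  have : q.eval y = 0 := by
    refine IsFractionRing.injective V L ?_
    rw [map_zero, ← Polynomial.eval_map_apply]
    exact hx
  rw [← hq, Polynomial.eval_map_apply, this, map_zero]

theorem exists_C_mul_map_ne_zero {W : Type u} [CommRing W] [IsDomain W] [ValuationRing W] {σ : Type v}
    (p : MvPolynomial σ W) (hp : p ≠ 0) :
    ∃ (c : W) (p' : MvPolynomial σ W), c ≠ 0 ∧ p = C c * p' ∧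
      MvPolynomial.map (residue W) p' ≠ 0 := by
  obtain ⟨d, hd, hmin⟩ : ∃ d ∈ p.support, ∀ d' ∈ p.support, p.coeff d ∣ p.coeff d' := by
    have key : ∀ s : Finset (σ →₀ ℕ), s.Nonempty → ∃ d ∈ s, ∀ d' ∈ s, p.coeff d ∣ p.coeff d' := by
      intro s hs
      induction hs using Finset.Nonempty.cons_induction with
      | singleton a => exact ⟨a, Finset.mem_singleton_self a, fun d' h => by
          rw [Finset.mem_singleton.1 h]⟩
      | cons a s ha hs ih =>
        obtain ⟨d, hd, h⟩ := ih
        rcases ValuationRing.iff_dvd_total.1 ‹ValuationRing W› |>.total (p.coeff a) (p.coeff d) with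
          hh | hh
        · refine ⟨a, Finset.mem_cons_self a s, fun d' hd' => ?_⟩
          rcases Finset.mem_cons.1 hd' with rfl | hd'
          · exact dvd_rfl
          · exact hh.trans (h d' hd')
        · refine ⟨d, Finset.mem_cons_of_mem hd, fun d' hd' => ?_⟩
          rcases Finset.mem_cons.1 hd' with rfl | hd'
          · exact hh
          · exact h d' hd'
    exact key _ (MvPolynomial.support_nonempty.2 hp)
  have hc : p.coeff d ≠ 0 := MvPolynomial.mem_support_iff.1 hd
  obtain ⟨p', hp'⟩ : C (p.coeff d) ∣ p := by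
    rw [MvPolynomial.C_dvd_iff_dvd_coeff]
    intro d'
    by_cases h : d' ∈ p.support
    · exact hmin d' h
    · rw [MvPolynomial.notMem_support_iff.1 h]; exact dvd_zero _
  refine ⟨_, p', hc, hp', fun h0 => ?_⟩
  have h1 : p.coeff d = p.coeff d * p'.coeff d := by
    conv_lhs => rw [hp', MvPolynomial.coeff_C_mul]
  have h2 : p'.coeff d = 1 := mul_left_cancel₀ hc (by rw [mul_one]; exact h1.symm)
  have := congrArg (MvPolynomial.coeff d) h0
  rw [MvPolynomial.coeff_map, h2, map_one, MvPolynomial.coeff_zero] at this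
  exact one_ne_zero this

/-- Valuation ring case. -/
theorem exists_prime_valuationRing {W B : Type u} [CommRing W] [IsDomain W] [ValuationRing W]
    [CommRing B] [IsDomain B] [Algebra W B] [FaithfulSMul W B] [Algebra.FiniteType W B]
    (hm : maximalIdeal W ≠ ⊥) (n : Ideal B) [n.IsMaximal] [n.LiesOver (maximalIdeal W)]
    (g : B) (hg : g ≠ 0) :
    ∃ P : Ideal B, P.IsPrime ∧ P ≤ n ∧ g ∉ P ∧ P.comap (algebraMap W B) = ⊥ ∧
      ∀ x ∉ P, ∃ a : W, a ≠ 0 ∧ algebraMap W B a ∈ P ⊔ Ideal.span {x} := by
  classical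
  have hmn : (maximalIdeal W).map (algebraMap W B) ≤ n :=
    Ideal.map_le_iff_le_comap.2 (le_of_eq (Ideal.over_def n (maximalIdeal W)))
  have hne : (maximalIdeal W).map (algebraMap W B) ≠ ⊤ := fun h =>
    (inferInstance : n.IsMaximal).ne_top (top_le_iff.1 (h ▸ hmn))
  let J := (maximalIdeal W).map (algebraMap W B)
  haveI : Nontrivial (B ⧸ J) := Ideal.Quotient.nontrivial_iff.2 hne
  -- the residue field acts on the special fibre
  let κ := ResidueField W
  letI : Algebra κ (B ⧸ J) :=
    (Ideal.Quotient.lift (maximalIdeal W) ((Ideal.Quotient.mk J).comp (algebraMap W B))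
      fun a ha => Ideal.Quotient.eq_zero_iff_mem.2 (Ideal.mem_map_of_mem _ ha)).toAlgebra
  haveI : IsScalarTower W κ (B ⧸ J) := IsScalarTower.of_algebraMap_eq fun _ => rfl
  haveI : Algebra.FiniteType κ (B ⧸ J) :=
    Algebra.FiniteType.of_restrictScalars_finiteType W κ (B ⧸ J)
  obtain ⟨e, g₀, hg₀, hg₀f⟩ := exists_finite_inj_algHom_of_fg κ (B ⧸ J)
  let R := MvPolynomial (Fin e) W
  choose t ht using fun i => Ideal.Quotient.mk_surjective (g₀ (MvPolynomial.X i))
  let φ : R →+* B := (MvPolynomial.aeval t : R →ₐ[W] B).toRingHom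
  have hφC : ∀ a, φ (C a) = algebraMap W B a := fun a => MvPolynomial.aeval_C t a
  have hcompat : (Ideal.Quotient.mk J).comp φ =
      g₀.toRingHom.comp (MvPolynomial.map (residue W)) := by
    refine MvPolynomial.ringHom_ext (fun a => ?_) fun i => ?_
    · have h1 : g₀ (MvPolynomial.C (residue W a)) = algebraMap κ (B ⧸ J) (residue W a) :=
        g₀.commutes _
      simp only [RingHom.comp_apply, φ, AlgHom.toRingHom_eq_coe, RingHom.coe_coe, aeval_C,
        MvPolynomial.map_C, h1]
      rfl
    · simp [φ, ht]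
  have hφinj : Function.Injective φ := by
    rw [injective_iff_map_eq_zero]
    intro p hp
    by_contra hp0
    obtain ⟨c, p', hc, rfl, hp'⟩ := exists_C_mul_map_ne_zero p hp0
    rw [map_mul, mul_eq_zero] at hp
    rcases hp with hp | hp
    · exact hc ((map_eq_zero_iff _ (FaithfulSMul.algebraMap_injective W B)).1 ((hφC c).symm.trans hp))
    · refine hp' (hg₀ ?_)
      have := RingHom.congr_fun hcompat p'
      simp only [RingHom.comp_apply, hp, map_zero] at this
      rw [map_zero]; exact this.symm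
  letI algRB : Algebra R B := φ.toAlgebra
  haveI : IsScalarTower W R B :=
    IsScalarTower.of_algebraMap_eq fun a => by
      exact (hφC a).symm
  haveI : FaithfulSMul R B := (faithfulSMul_iff_algebraMap_injective R B).2 hφinj
  haveI : Algebra.FiniteType R B := Algebra.FiniteType.of_restrictScalars_finiteType W R B
  -- the special fibre is finite over `R`
  have hfin : ((Ideal.Quotient.mk J).comp φ).Finite := by
    rw [hcompat]
    refine RingHom.Finite.comp hg₀f (RingHom.Finite.of_surjective _ ?_)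
    exact MvPolynomial.map_surjective _ residue_surjective
  haveI : Module.Finite R (B ⧸ J) := by
    have h : algebraMap R (B ⧸ J) = (Ideal.Quotient.mk J).comp φ := rfl
    rw [← h, RingHom.finite_algebraMap] at hfin
    exact hfin
  have hintJ : ((Ideal.Quotient.mk J).comp φ).IsIntegral := hfin.to_isIntegral
  set q : Ideal R := n.comap φ with hq
  haveI hqmax : q.IsMaximal := by
    have h1 : (n.map (Ideal.Quotient.mk J)).IsMaximal :=
      Ideal.IsMaximal.map_of_surjective_of_ker_le Ideal.Quotient.mk_surjective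
        (by rw [Ideal.mk_ker]; exact hmn)
    haveI := h1
    have h2 := Ideal.isMaximal_comap_of_isIntegral_of_isMaximal' ((Ideal.Quotient.mk J).comp φ)
      hintJ (n.map (Ideal.Quotient.mk J))
    rwa [← Ideal.comap_comap, Ideal.comap_map_of_surjective _ Ideal.Quotient.mk_surjective,
      ← RingHom.ker_eq_comap_bot, Ideal.mk_ker, sup_eq_left.2 hmn] at h2
  -- quasi-finite at `n`
  haveI : Algebra.QuasiFiniteAt R n := by
    let nn : PrimeSpectrum B := ⟨n, inferInstance⟩
    refine Algebra.QuasiFiniteAt.of_isOpen_singleton_fiber nn ?_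
    have hfib : ∀ z : PrimeSpectrum B, z.asIdeal.comap φ = q → J ≤ z.asIdeal := by
      intro z hz
      refine Ideal.map_le_iff_le_comap.2 fun a ha => ?_
      have : C a ∈ q := by
        rw [hq, Ideal.mem_comap]
        rw [hφC]
        exact hmn (Ideal.mem_map_of_mem _ ha)
      rw [← hz, Ideal.mem_comap, hφC] at this
      exact this
    let F := (PrimeSpectrum.comap (algebraMap R B)) ⁻¹' {nn.comap (algebraMap R B)}
    have hF : ∀ z : F, z.1.asIdeal.comap φ = q := fun z => congrArg PrimeSpectrum.asIdeal z.2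
    let ψ : F → PrimeSpectrum (B ⧸ J) := fun z =>
      ⟨z.1.asIdeal.map (Ideal.Quotient.mk J), Ideal.map_isPrime_of_surjective
        Ideal.Quotient.mk_surjective (by rw [Ideal.mk_ker]; exact hfib _ (hF z))⟩
    have hψc : ∀ z : F, (ψ z).asIdeal.comap (Ideal.Quotient.mk J) = z.1.asIdeal := fun z => by
      simp only [ψ, Ideal.comap_map_of_surjective _ Ideal.Quotient.mk_surjective,
        ← RingHom.ker_eq_comap_bot, Ideal.mk_ker, sup_eq_left]
      exact hfib _ (hF z)
    have hψq : ∀ z : F, (ψ z).asIdeal.under R = q := fun z => by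
      rw [← hF z, ← hψc z, Ideal.comap_comap]; rfl
    have hψi : Function.Injective ψ := fun a b h => Subtype.ext <| PrimeSpectrum.ext <| by
      rw [← hψc a, ← hψc b, h]
    haveI : Finite F := by
      have : ((q.primesOver (B ⧸ J))).Finite := Algebra.QuasiFinite.finite_primesOver q
      have := this.to_subtype
      exact Finite.of_injective (fun z : F => (⟨(ψ z).asIdeal, (ψ z).2, ⟨(hψq z).symm⟩⟩ :
        q.primesOver (B ⧸ J))) fun a b h => hψi (PrimeSpectrum.ext (congrArg Subtype.val h))
    haveI : T1Space F := by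
      refine ⟨fun z => ?_⟩
      rw [← closure_subset_iff_isClosed]
      intro w hw
      have hzw : z.1 ⤳ w.1 := (specializes_iff_mem_closure.2 hw).map continuous_subtype_val
      rw [← PrimeSpectrum.le_iff_specializes] at hzw
      haveI := (ψ z).2
      haveI := (ψ w).2
      have : (ψ z).asIdeal = (ψ w).asIdeal :=
        Algebra.QuasiFinite.eq_of_le_of_under_eq (R := R) _ _ (Ideal.map_mono hzw)
          ((hψq z).trans (hψq w).symm)
      exact (hψi (PrimeSpectrum.ext this)).symm
    exact isOpen_discrete (α := F) _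
  obtain ⟨r, hrn, hrint, hr⟩ := Algebra.zariskisMainProperty_iff.1
    (Algebra.ZariskisMainProperty.of_finiteType (R := R) (S := B) n)
  -- the valuation extension
  let K := FractionRing W
  let L := AlgebraicClosure K
  let iL : W →+* L := (algebraMap K L).comp (algebraMap W K)
  have hiL : Function.Injective iL :=
    (algebraMap K L).injective.comp (IsFractionRing.injective W K)
  obtain ⟨V, hVle, hVloc⟩ := (LocalSubring.range iL).exists_le_valuationSubring
  have hWV : ∀ a, iL a ∈ V := fun a => hVle ⟨a, rfl⟩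
  let j : W →+* V := iL.codRestrict V.toSubring hWV
  have hjloc : ∀ a, a ∈ maximalIdeal W → j a ∈ maximalIdeal V := by
    intro a ha hu
    have hu' : IsUnit (Subring.inclusion hVle ⟨iL a, a, rfl⟩) := hu
    obtain ⟨⟨_, b, rfl⟩, hb⟩ := isUnit_iff_exists_inv.1 (hVloc.map_nonunit _ hu')
    refine ha (IsUnit.of_mul_eq_one b (hiL ?_))
    rw [map_mul, map_one]
    exact congrArg Subtype.val hb
  haveI := isAlgClosed_residueField V
  letI algκk : Algebra κ (ResidueField V) :=
    (Ideal.Quotient.lift (maximalIdeal W) ((residue V).comp j) fun a ha =>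
      residue_eq_zero_iff _ |>.2 (hjloc a ha)).toAlgebra
  have hmq : ∀ a ∈ maximalIdeal W, C a ∈ q := fun a ha => by
    rw [hq, Ideal.mem_comap]
    rw [hφC]
    exact hmn (Ideal.mem_map_of_mem _ ha)
  letI : Field (R ⧸ q) := Ideal.Quotient.field q
  letI algκq : Algebra κ (R ⧸ q) :=
    (Ideal.Quotient.lift (maximalIdeal W) ((Ideal.Quotient.mk q).comp C) fun a ha =>
      Ideal.Quotient.eq_zero_iff_mem.2 (hmq a ha)).toAlgebra
  haveI : IsScalarTower W κ (R ⧸ q) := IsScalarTower.of_algebraMap_eq fun _ => rfl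
  haveI : Algebra.FiniteType κ (R ⧸ q) :=
    Algebra.FiniteType.of_restrictScalars_finiteType W κ (R ⧸ q)
  haveI : Module.Finite κ (R ⧸ q) := finite_of_finite_type_of_isJacobsonRing κ (R ⧸ q)
  let lk : (R ⧸ q) →ₐ[κ] ResidueField V := IsAlgClosed.lift
  let ab : Fin e → ResidueField V := fun i => lk (Ideal.Quotient.mk q (X i))
  let Si : Fin e → Set L := fun i => Subtype.val '' (residue V ⁻¹' {ab i})
  obtain ⟨π, hπ, hπ0⟩ : ∃ π ∈ maximalIdeal W, π ≠ (0 : W) :=
    Submodule.exists_mem_ne_zero_of_ne_bot hm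
  have hSi : ∀ i, (Si i).Infinite := by
    intro i
    refine Set.Infinite.image Subtype.val_injective.injOn ?_
    obtain ⟨a, ha⟩ := residue_surjective (ab i)
    refine Set.infinite_of_injective_forall_mem (f := fun k : ℕ => a + j π ^ (k + 1)) ?_ fun k => ?_
    · intro k l hkl
      have h := congrArg Subtype.val (add_left_cancel hkl)
      simp only [SubmonoidClass.coe_pow] at h
      have h' : π ^ (k + 1) = π ^ (l + 1) := hiL (by rw [map_pow, map_pow]; exact h)
      by_contra hne
      exact hπ (by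
        rcases lt_or_gt_of_ne hne with hlt | hlt
        · have : IsUnit (π ^ (l - k)) := by
            refine IsUnit.of_mul_eq_one 1 ?_
            rw [mul_one]
            refine mul_left_cancel₀ (pow_ne_zero (k + 1) hπ0) ?_
            rw [← pow_add, mul_one, h']; congr 1; omega
          exact (isUnit_pow_iff (by omega)).1 this
        · have : IsUnit (π ^ (k - l)) := by
            refine IsUnit.of_mul_eq_one 1 ?_
            rw [mul_one]
            refine mul_left_cancel₀ (pow_ne_zero (l + 1) hπ0) ?_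
            rw [← pow_add, mul_one, ← h']; congr 1; omega
          exact (isUnit_pow_iff (by omega)).1 this)
    · simp only [Set.mem_preimage, Set.mem_singleton_iff, map_add, map_pow, ha]
      rw [(residue_eq_zero_iff _).2 (hjloc π hπ), zero_pow (by omega), add_zero]
  -- the element to avoid
  obtain ⟨jg, hjg⟩ := hr g
  have hr0 : r ≠ 0 := fun h => hrn (h ▸ zero_mem n)
  have hz0 : r ^ jg * g ≠ 0 := mul_ne_zero (pow_ne_zero _ hr0) hg
  obtain ⟨h, hh, hh0⟩ := Submodule.exists_mem_ne_zero_of_ne_bot
    (Ideal.comap_ne_bot_of_integral_mem (R := R) hz0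
      (Ideal.mem_span_singleton_self _) hjg)
  obtain ⟨α, hα, hevh⟩ : ∃ α ∈ Set.pi Set.univ Si,
      MvPolynomial.eval α (MvPolynomial.map iL h) ≠ 0 := by
    by_contra hc; push Not at hc
    refine (map_ne_zero_iff _ (MvPolynomial.map_injective iL hiL)).2 hh0 ?_
    exact MvPolynomial.funext_set Si hSi fun x hx => by rw [hc x hx, map_zero]
  have hαV : ∀ i, ∃ a : V, residue V a = ab i ∧ (a : L) = α i := fun i => by
    obtain ⟨a, ha, hae⟩ := hα i trivial
    exact ⟨a, ha, hae⟩
  choose αV hαV1 hαV2 using hαV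
  let ev : R →+* L := MvPolynomial.eval₂Hom iL α
  let evV : R →+* V := MvPolynomial.eval₂Hom j αV
  have hev : ev = (V.subtype).comp evV := by
    refine MvPolynomial.ringHom_ext (fun a => ?_) fun i => ?_
    · simp [ev, evV, j]
    · simp [ev, evV, hαV2]
  have hev2 : (residue V).comp evV = (lk : (R ⧸ q) →+* _).comp (Ideal.Quotient.mk q) := by
    refine MvPolynomial.ringHom_ext (fun a => ?_) fun i => ?_
    · simp only [RingHom.comp_apply, evV, eval₂Hom_C]
      exact (lk.commutes (residue W a)).symm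
    · simp [evV, hαV1, ab]
  set Q := RingHom.ker ev with hQ
  haveI : Q.IsPrime := RingHom.ker_isPrime _
  have hQq : Q ≤ q := fun p hp => by
    rw [hQ, RingHom.mem_ker, hev, RingHom.comp_apply] at hp
    have : evV p = 0 := Subtype.val_injective hp
    have h2 := RingHom.congr_fun hev2 p
    rw [RingHom.comp_apply, this, map_zero, RingHom.comp_apply] at h2
    exact Ideal.Quotient.eq_zero_iff_mem.1 (lk.toRingHom.injective (h2.symm.trans (map_zero _).symm))
  have hhQ : h ∉ Q := fun hc => hevh (by
    rw [hQ, RingHom.mem_ker] at hc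
    rwa [MvPolynomial.eval_map, ← coe_eval₂Hom])
  -- going down
  haveI : IsIntegrallyClosed R := isIntegrallyClosed_mvPolynomial_fin W e
  let C' := integralClosure R B
  haveI : FaithfulSMul R C' := (faithfulSMul_iff_algebraMap_injective R C').2
    fun a b hab => hφinj (congrArg Subtype.val hab)
  let nC : Ideal C' := n.comap C'.val.toRingHom
  haveI : nC.LiesOver q := ⟨rfl⟩
  obtain ⟨PC, hPCn, hPC, hPCQ⟩ := Ideal.exists_ideal_le_liesOver_of_le nC hQq
  let rC : C' := ⟨r, hrint⟩
  have hrPC : rC ∉ PC := fun h => hrn (hPCn h)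
  let P : Ideal B :=
    { carrier := {x | ∃ k, ∃ c ∈ PC, r ^ k * x = (c : B)}
      zero_mem' := ⟨0, 0, PC.zero_mem, by simp⟩
      add_mem' := by
        rintro x y ⟨k, c, hc, hx⟩ ⟨l, d, hd, hy⟩
        refine ⟨k + l, rC ^ l * c + rC ^ k * d, add_mem (PC.mul_mem_left _ hc) (PC.mul_mem_left _ hd), ?_⟩
        simp only [Subalgebra.coe_add, Subalgebra.coe_mul, SubmonoidClass.coe_pow, ← hx, ← hy, rC]
        ring
      smul_mem' := by
        rintro b x ⟨k, c, hc, hx⟩
        obtain ⟨l, hl⟩ := hr b
        refine ⟨l + k, ⟨_, hl⟩ * c, PC.mul_mem_left _ hc, ?_⟩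
        simp only [Subalgebra.coe_mul, ← hx, smul_eq_mul]
        ring }
  have hPC' : ∀ c : C', (c : B) ∈ P ↔ c ∈ PC := by
    intro c
    refine ⟨fun ⟨k, d, hd, hc⟩ => ?_, fun hc => ⟨0, c, hc, by simp⟩⟩
    have : rC ^ k * c ∈ PC := by
      have he : rC ^ k * c = d := Subtype.ext (by simpa [rC] using hc)
      rw [he]; exact hd
    exact (hPC.mem_or_mem this).resolve_left fun h => hrPC (hPC.mem_of_pow_mem k h)
  have hPR : ∀ a : R, φ a ∈ P ↔ a ∈ Q := fun a => by
    rw [Ideal.over_def PC Q, Ideal.mem_comap, ← hPC']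
    rfl
  have hPn : P ≤ n := by
    rintro x ⟨k, c, hc, hx⟩
    have : r ^ k * x ∈ n := hx ▸ hPCn hc
    exact ((inferInstance : n.IsMaximal).isPrime.mem_or_mem this).resolve_left
      fun h => hrn ((inferInstance : n.IsMaximal).isPrime.mem_of_pow_mem k h)
  have hPp : P.IsPrime := by
    refine ⟨fun h => (inferInstance : n.IsMaximal).ne_top (top_le_iff.1 (h ▸ hPn)), fun {x y} hxy => ?_⟩
    obtain ⟨i, hi⟩ := hr x
    obtain ⟨l, hl⟩ := hr y
    have : ((⟨_, hi⟩ * ⟨_, hl⟩ : C') : B) ∈ P := by
      rw [Subalgebra.coe_mul]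
      have : r ^ i * x * (r ^ l * y) = (r ^ i * r ^ l) * (x * y) := by ring
      rw [this]; exact P.mul_mem_left _ hxy
    rcases hPC.mem_or_mem ((hPC' _).1 this) with hc | hc
    · exact Or.inl ⟨i, _, hc, rfl⟩
    · exact Or.inr ⟨l, _, hc, rfl⟩
  refine ⟨P, hPp, hPn, fun hgP => hhQ ((hPR h).1 ?_), ?_, fun x hx => ?_⟩
  · exact (Ideal.span_singleton_le_iff_mem _).2 (P.mul_mem_left (r ^ jg) hgP) hh
  · rw [eq_bot_iff]
    intro a ha
    rw [Ideal.mem_comap, ← hφC, hPR, hQ, RingHom.mem_ker] at ha
    exact hiL (by rw [map_zero]; exact (MvPolynomial.eval₂Hom_C iL α a).symm.trans ha)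
  · obtain ⟨i, hi⟩ := hr x
    let y : C' := ⟨_, hi⟩
    have hy : y ∉ PC := fun h => hx ⟨i, y, h, rfl⟩
    haveI := hPC
    have hy' : Ideal.Quotient.mk PC y ≠ 0 := fun h => hy (Ideal.Quotient.eq_zero_iff_mem.1 h)
    have hcne := Ideal.comap_ne_bot_of_integral_mem (R := R ⧸ Q) hy'
      (Ideal.mem_span_singleton_self _)
      (Algebra.IsIntegral.isIntegral _)
    obtain ⟨a₁, ha₁, ha₁0⟩ := Submodule.exists_mem_ne_zero_of_ne_bot hcne
    obtain ⟨a₁, rfl⟩ := Ideal.Quotient.mk_surjective a₁
    rw [Ideal.mem_comap, Ideal.Quotient.algebraMap_mk_of_liesOver, Ideal.mem_span_singleton] at ha₁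
    obtain ⟨b, hb⟩ := ha₁
    obtain ⟨b, rfl⟩ := Ideal.Quotient.mk_surjective b
    rw [← map_mul, Ideal.Quotient.eq] at hb
    have hmem : φ a₁ ∈ P ⊔ Ideal.span {x} := by
      have h1 : φ a₁ - r ^ i * x * b ∈ P := (hPC' (algebraMap R C' a₁ - y * b)).2 hb
      refine Submodule.mem_sup.2 ⟨_, h1, r ^ i * x * b, Ideal.mem_span_singleton.2 ⟨r ^ i * b, by ring⟩,
        by ring⟩
    have hev0 : ev a₁ ≠ 0 := fun h => ha₁0 (Ideal.Quotient.eq_zero_iff_mem.2 h)
    have halg : IsAlgebraic W (ev a₁) :=
      (IsFractionRing.comap_isAlgebraic_iff (A := W) (K := K) (C := L)).2 inferInstance |>.isAlgebraic _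
    obtain ⟨F, hF0, hF⟩ := halg.exists_nonzero_coeff_and_aeval_eq_zero
      (mem_nonZeroDivisors_of_ne_zero hev0)
    refine ⟨F.coeff 0, hF0, ?_⟩
    have h2 : F.eval₂ C a₁ ∈ Q := by
      rw [hQ, RingHom.mem_ker, Polynomial.hom_eval₂]
      have : ev.comp C = algebraMap W L := (RingHom.ext fun a => MvPolynomial.eval₂Hom_C iL α a).trans
        (IsScalarTower.algebraMap_eq W K L).symm
      rw [this]
      exact hF
    have h3 : φ (F.eval₂ C a₁) ∈ P ⊔ Ideal.span {x} := Ideal.mem_sup_left ((hPR _).2 h2)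
    rw [Polynomial.hom_eval₂] at h3
    have h4 : φ.comp C = algebraMap W B := RingHom.ext hφC
    rw [h4] at h3
    have h5 : F.eval₂ (algebraMap W B) (φ a₁) =
        φ a₁ * F.divX.eval₂ (algebraMap W B) (φ a₁) + algebraMap W B (F.coeff 0) := by
      refine ((congrArg (Polynomial.eval₂ (algebraMap W B) (φ a₁))
        (Polynomial.X_mul_divX_add F)).symm).trans ?_
      rw [Polynomial.eval₂_add, Polynomial.eval₂_mul, Polynomial.eval₂_X, Polynomial.eval₂_C]
    rw [h5] at h3
    exact (Submodule.add_mem_iff_right _ (Ideal.mul_mem_right _ _ hmem)).1 h3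

/-- General domain case: closed points of the generic fibre below a closed point of a special fibre
avoid any given nonzero element. -/
theorem exists_prime_closed_generic_below {A B : Type u} [CommRing A] [IsDomain A] [CommRing B]
    [IsDomain B] [Algebra A B] [FaithfulSMul A B] [Algebra.FiniteType A B]
    (n : Ideal B) [n.IsPrime] (hA : n.comap (algebraMap A B) ≠ ⊥)
    (hn : ∀ M : Ideal B, M.IsPrime → n ≤ M → M.comap (algebraMap A B) = n.comap (algebraMap A B) → M = n)
    (g : B) (hg : g ≠ 0) :
    ∃ P : Ideal B, P.IsPrime ∧ P ≤ n ∧ g ∉ P ∧ P.comap (algebraMap A B) = ⊥ ∧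
      ∀ x ∉ P, ∃ a : A, a ≠ 0 ∧ algebraMap A B a ∈ P ⊔ Ideal.span {x} := by
  classical
  let L := FractionRing B
  let f : Localization.AtPrime n →+* L :=
    IsLocalization.lift (M := n.primeCompl) (g := algebraMap B L) fun s =>
      isUnit_iff_ne_zero.2 ((map_ne_zero_iff _ (IsFractionRing.injective B L)).2
        fun h => s.2 (h ▸ zero_mem n))
  obtain ⟨V, hVle, hVloc⟩ := (LocalSubring.range f).exists_le_valuationSubring
  have hBV : ∀ b : B, algebraMap B L b ∈ V := fun b =>
    hVle ⟨algebraMap B _ b, IsLocalization.lift_eq _ b⟩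
  let jB : B →+* V := (algebraMap B L).codRestrict V.toSubring hBV
  have hjB : ∀ b, jB b ∈ maximalIdeal V ↔ b ∈ n := by
    intro b
    constructor
    · intro hb
      by_contra hbn
      have hu : IsUnit (algebraMap B (Localization.AtPrime n) b) :=
        IsLocalization.map_units (Localization.AtPrime n) (⟨b, hbn⟩ : n.primeCompl)
      have := (hu.map f.rangeRestrict).map (Subring.inclusion hVle)
      have heq : Subring.inclusion hVle (f.rangeRestrict (algebraMap B _ b)) = jB b :=
        Subtype.ext (IsLocalization.lift_eq _ b)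
      exact hb (heq ▸ this)
    · intro hb hu
      have heq : jB b = Subring.inclusion hVle
          ⟨algebraMap B L b, algebraMap B _ b, IsLocalization.lift_eq _ b⟩ := rfl
      rw [heq] at hu
      obtain ⟨⟨_, c, rfl⟩, hc⟩ := isUnit_iff_exists_inv.1 (hVloc.map_nonunit _ hu)
      have h1 : f (algebraMap B _ b * c) = f 1 := by
        rw [map_mul, map_one, IsLocalization.lift_eq]
        exact congrArg Subtype.val hc
      have hfinj : Function.Injective f := (IsLocalization.lift_injective_iff _).2 fun x y => by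
        constructor
        · intro h
          rw [IsLocalization.injective (M := n.primeCompl) (Localization.AtPrime n)
            (fun s hs => mem_nonZeroDivisors_of_ne_zero fun h0 => hs (h0 ▸ zero_mem n)) h]
        · intro h; rw [IsFractionRing.injective B L h]
      have hub : IsUnit (algebraMap B (Localization.AtPrime n) b) :=
        IsUnit.of_mul_eq_one c (hfinj h1)
      exact (IsLocalization.AtPrime.isUnit_to_map_iff _ n b).1 hub hb
  let K := FractionRing A
  let iK : K →+* L := IsFractionRing.lift (g := (algebraMap B L).comp (algebraMap A B))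
    ((IsFractionRing.injective B L).comp (FaithfulSMul.algebraMap_injective A B))
  have hiK : ∀ a, iK (algebraMap A K a) = algebraMap B L (algebraMap A B a) :=
    fun a => IsFractionRing.lift_algebraMap _ a
  let Wv : ValuationSubring K := V.comap iK
  have hAW : ∀ a, algebraMap A K a ∈ Wv := fun a => by
    rw [ValuationSubring.mem_comap, hiK]; exact hBV _
  let jA : A →+* Wv := (algebraMap A K).codRestrict Wv.toSubring hAW
  letI algWL : Algebra Wv L := (iK.comp Wv.subtype).toAlgebra
  obtain ⟨s, hs⟩ := (inferInstance : Algebra.FiniteType A B).out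
  let B' : Subalgebra Wv L := Algebra.adjoin Wv ((algebraMap B L) '' (s : Set B))
  haveI : Algebra.FiniteType Wv B' :=
    ⟨(B'.fg_top).2 ⟨s.image (algebraMap B L), by rw [Finset.coe_image]⟩⟩
  haveI : FaithfulSMul Wv B' := (faithfulSMul_iff_algebraMap_injective _ _).2 fun a b h =>
    Subtype.val_injective (iK.injective (congrArg Subtype.val h))
  have hB'V : ∀ x : B', (x : L) ∈ V := by
    rintro ⟨x, hx⟩
    induction hx using Algebra.adjoin_induction with
    | mem y hy => obtain ⟨b, -, rfl⟩ := hy; exact hBV b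
    | algebraMap w => exact w.2
    | add y z _ _ hy hz => exact add_mem hy hz
    | mul y z _ _ hy hz => exact mul_mem hy hz
  have hBB' : ∀ b : B, algebraMap B L b ∈ B' := by
    intro b
    have : b ∈ Algebra.adjoin A (s : Set B) := hs ▸ Algebra.mem_top
    induction this using Algebra.adjoin_induction with
    | mem y hy => exact Algebra.subset_adjoin ⟨y, hy, rfl⟩
    | algebraMap a =>
      rw [← hiK]
      exact B'.algebraMap_mem (jA a)
    | add y z _ _ hy hz => rw [map_add]; exact add_mem hy hz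
    | mul y z _ _ hy hz => rw [map_mul]; exact mul_mem hy hz
  let ι : B →+* B' := (algebraMap B L).codRestrict B' hBB'
  let jV : B' →+* V := B'.val.toRingHom.codRestrict V.toSubring hB'V
  let jW : Wv →+* V := (iK.comp Wv.subtype).codRestrict V.toSubring fun w => w.2
  have hjW : ∀ w : Wv, w ∈ maximalIdeal Wv → jW w ∈ maximalIdeal V := by
    intro w hw hu
    obtain ⟨v, hv⟩ := isUnit_iff_exists_inv.1 hu
    have hv' : iK w * (v : L) = 1 := congrArg Subtype.val hv
    have hmem : (w : K)⁻¹ ∈ Wv := by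
      rw [ValuationSubring.mem_comap, map_inv₀, inv_eq_of_mul_eq_one_right hv']
      exact v.2
    refine hw (IsUnit.of_mul_eq_one ⟨(w : K)⁻¹, hmem⟩ (Subtype.ext ?_))
    show (w : K) * (w : K)⁻¹ = 1
    refine mul_inv_cancel₀ fun h0 => ?_
    rw [h0, map_zero, zero_mul] at hv'
    exact zero_ne_one hv'
  obtain ⟨n'', hn'', hle⟩ := Ideal.exists_le_maximal ((maximalIdeal V).comap jV)
    (Ideal.comap_ne_top _ (maximalIdeal.isMaximal V).ne_top)
  haveI := hn''
  have hlies : n''.comap (algebraMap Wv B') = maximalIdeal Wv := by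
    refine ((maximalIdeal.isMaximal Wv).eq_of_le (Ideal.comap_ne_top _ hn''.ne_top) ?_).symm
    intro w hw
    exact hle (hjW w hw)
  haveI : n''.LiesOver (maximalIdeal Wv) := ⟨hlies.symm⟩
  have hjVι : ∀ b, jV (ι b) = jB b := fun b => rfl
  have hAι : ∀ a, ι (algebraMap A B a) = algebraMap Wv B' (jA a) := fun a =>
    Subtype.ext (hiK a).symm
  have hjWA : ∀ a, jW (jA a) = jB (algebraMap A B a) := fun a => Subtype.ext (hiK a)
  have hunder : ∀ a, algebraMap A B a ∈ n ↔ jA a ∈ maximalIdeal Wv := by
    intro a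
    rw [← hjB, ← hjWA]
    exact ⟨fun h hu => h (hu.map jW), hjW _⟩
  have hn''n : n''.comap ι = n := by
    refine hn _ inferInstance (fun b hb => hle (show jV (ι b) ∈ _ by rw [hjVι, hjB]; exact hb)) ?_
    ext a
    rw [Ideal.mem_comap, Ideal.mem_comap, hAι, ← Ideal.mem_comap, hlies, Ideal.mem_comap, hunder]
  have hmW : maximalIdeal Wv ≠ ⊥ := by
    obtain ⟨a, ha, ha0⟩ := Submodule.exists_mem_ne_zero_of_ne_bot hA
    refine fun h => ha0 ?_
    have := (hunder a).1 ha
    rw [h, Ideal.mem_bot] at this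
    exact IsFractionRing.injective A K (by rw [map_zero]; exact congrArg Subtype.val this)
  have hιinj : Function.Injective ι := fun a b h =>
    IsFractionRing.injective B L (congrArg Subtype.val h)
  obtain ⟨P', hP', hPn', hgP', hPW, halg⟩ := exists_prime_valuationRing hmW n'' (ι g)
    ((map_ne_zero_iff _ hιinj).2 hg)
  refine ⟨P'.comap ι, inferInstance, (Ideal.comap_mono hPn').trans hn''n.le, hgP', ?_, fun x hx => ?_⟩
  · rw [eq_bot_iff]
    intro a ha
    have : jA a ∈ P'.comap (algebraMap Wv B') := by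
      rw [Ideal.mem_comap, ← hAι]; exact ha
    rw [hPW, Ideal.mem_bot] at this
    exact IsFractionRing.injective A K (by rw [map_zero]; exact congrArg Subtype.val this)
  · obtain ⟨w, hw0, hw⟩ := halg (ι x) hx
    obtain ⟨p', hp', u, hu, hsum⟩ := Submodule.mem_sup.1 hw
    obtain ⟨c, rfl⟩ := Ideal.mem_span_singleton.1 hu
    -- clear denominators
    have hden : ∀ z : B', ∃ t : A, t ≠ 0 ∧ ∃ b : B,
        algebraMap B L (algebraMap A B t) * (z : L) = algebraMap B L b := by
      rintro ⟨z, hz⟩
      induction hz using Algebra.adjoin_induction with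
      | mem y hy => obtain ⟨b, -, rfl⟩ := hy; exact ⟨1, one_ne_zero, b, by simp⟩
      | algebraMap w =>
        obtain ⟨a, t, ht, hw⟩ := IsFractionRing.div_surjective (A := A) (w : K)
        refine ⟨t, nonZeroDivisors.ne_zero ht, algebraMap A B a, ?_⟩
        show _ * iK (w : K) = _
        rw [← hw, map_div₀, ← hiK, ← hiK, mul_div_cancel₀]
        rw [hiK, map_ne_zero_iff _ (IsFractionRing.injective B L),
          map_ne_zero_iff _ (FaithfulSMul.algebraMap_injective A B)]
        exact nonZeroDivisors.ne_zero ht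
      | add y z _ _ hy hz =>
        obtain ⟨t, ht, b, hb⟩ := hy
        obtain ⟨t', ht', b', hb'⟩ := hz
        refine ⟨t * t', mul_ne_zero ht ht', algebraMap A B t' * b + algebraMap A B t * b', ?_⟩
        simp only [map_add, map_mul, ← hb, ← hb', Subalgebra.coe_add]
        ring
      | mul y z _ _ hy hz =>
        obtain ⟨t, ht, b, hb⟩ := hy
        obtain ⟨t', ht', b', hb'⟩ := hz
        refine ⟨t * t', mul_ne_zero ht ht', b * b', ?_⟩
        simp only [map_mul, ← hb, ← hb', Subalgebra.coe_mul]
        ring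
    obtain ⟨t₁, ht₁, bp, hbp⟩ := hden p'
    obtain ⟨t₂, ht₂, bc, hbc⟩ := hden c
    obtain ⟨a₀, t₃, ht₃, hwK⟩ := IsFractionRing.div_surjective (A := A) (w : K)
    have ha₀ : a₀ ≠ 0 := fun h => hw0 (Subtype.ext (by rw [← hwK, h, map_zero, zero_div]; rfl))
    refine ⟨t₁ * t₂ * a₀, mul_ne_zero (mul_ne_zero ht₁ ht₂) ha₀, ?_⟩
    have hbpP : bp ∈ P'.comap ι := by
      rw [Ideal.mem_comap]
      have : ι bp = algebraMap Wv B' (jA t₁) * p' :=
        Subtype.ext (hbp.symm.trans (by rw [Subalgebra.coe_mul, ← hAι]; rfl))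
      rw [this]; exact P'.mul_mem_left _ hp'
    refine Submodule.mem_sup.2 ⟨algebraMap A B (t₂ * t₃) * bp, Ideal.mul_mem_left _ _ hbpP,
      x * (algebraMap A B (t₁ * t₃) * bc), Ideal.mul_mem_right _ _ (Ideal.mem_span_singleton_self x), ?_⟩
    apply IsFractionRing.injective B L
    have h3 : (p' : L) + algebraMap B L x * (c : L) = iK (w : K) := congrArg Subtype.val hsum
    have h4 : iK (w : K) * algebraMap B L (algebraMap A B t₃) = algebraMap B L (algebraMap A B a₀) := by
      rw [← hwK, map_div₀, ← hiK, ← hiK, div_mul_cancel₀]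
      rw [hiK, map_ne_zero_iff _ (IsFractionRing.injective B L),
        map_ne_zero_iff _ (FaithfulSMul.algebraMap_injective A B)]
      exact nonZeroDivisors.ne_zero ht₃
    simp only [map_add, map_mul, ← hbp, ← hbc]
    linear_combination (algebraMap B L (algebraMap A B t₁) * algebraMap B L (algebraMap A B t₂) *
      algebraMap B L (algebraMap A B t₃)) * h3 +
      (algebraMap B L (algebraMap A B t₁) * algebraMap B L (algebraMap A B t₂)) * h4

end Groth.Agent.FlatMorGeom
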