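import Groth.Prelude.Def_MoreMor
import Mathlib.AlgebraicGeometry.ZariskisMainTheorem
import Mathlib.AlgebraicGeometry.Artinian
import Mathlib.RingTheory.ZariskisMainTheorem
import Mathlib.Data.Set.Card.Arithmetic

/-!
# Geometric fibres of locally quasi-finite morphisms
-/

universe u

open AlgebraicGeometry CategoryTheory Limits TensorProduct

namespace Groth.Agent.FlatMorGeom

theorem card_primeSpectrum_le_finrank (F R : Type u) [Field F] [CommRing R] [Algebra F R]
    [Module.Finite F R] : ENat.card (PrimeSpectrum R) ≤ (Module.finrank F R : ℕ∞) := by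
  classical
  have : IsArtinianRing R := IsArtinianRing.of_finite F R
  have : Finite (PrimeSpectrum R) := inferInstance
  let _ := Fintype.ofFinite (PrimeSpectrum R)
  rw [ENat.card_eq_coe_fintype_card, IsArtinianRing.finrank_eq_sum_primeSpectrum R F, Nat.cast_le]
  have h1 : ∀ p : PrimeSpectrum R, 1 ≤ Module.finrank F (Localization.AtPrime p.asIdeal) := by
    intro p
    have : Module.Finite F (Localization.AtPrime p.asIdeal) :=
      Module.Finite.of_surjective (Algebra.algHom F R (Localization.AtPrime p.asIdeal)).toLinearMap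
        (IsArtinianRing.localization_surjective p.asIdeal.primeCompl _)
    exact Module.finrank_pos
  calc Fintype.card (PrimeSpectrum R) = ∑ _p : PrimeSpectrum R, 1 := by simp
    _ ≤ _ := Finset.sum_le_sum fun p _ => h1 p

/-- A bound for the fibres of a localization of a finite algebra. -/
theorem card_primeSpectrum_localization_tensor_le {A C B' : Type u} [CommRing A] [CommRing C]
    [CommRing B'] [Algebra A C] [Module.Finite A C] [Algebra A B'] [Algebra C B'] [IsScalarTower A C B']
    (r : C) [IsLocalization.Away r B'] (n : ℕ) (v : (Fin n → A) →ₗ[A] C) (hv : Function.Surjective v)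
    (L : Type u) [Field L] [Algebra A L] :
    ENat.card (PrimeSpectrum (L ⊗[A] B')) ≤ n := by
  let φ : L ⊗[A] C →ₐ[L] L ⊗[A] B' :=
    Algebra.TensorProduct.map (AlgHom.id L L) (IsScalarTower.toAlgHom A C B')
  let t : L ⊗[A] B' := 1 ⊗ₜ algebraMap C B' r
  have ht : IsUnit t := (IsLocalization.Away.algebraMap_isUnit r).map
    (Algebra.TensorProduct.includeRight : B' →ₐ[A] L ⊗[A] B')
  have key : ∀ z : L ⊗[A] B', ∃ m : ℕ, ∃ w, φ w = z * t ^ m := by
    intro z
    induction z with
    | zero => exact ⟨0, 0, by simp⟩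
    | add a b ha hb =>
      obtain ⟨i, x, hx⟩ := ha
      obtain ⟨j, y, hy⟩ := hb
      refine ⟨i + j, x * (1 ⊗ₜ r) ^ j + y * (1 ⊗ₜ r) ^ i, ?_⟩
      have : φ (1 ⊗ₜ r) = t := by simp [φ, t]
      rw [map_add, map_mul, map_mul, map_pow, map_pow, this, hx, hy]
      ring
    | tmul l b =>
      obtain ⟨m, c, hc⟩ := IsLocalization.Away.surj r b
      refine ⟨m, l ⊗ₜ c, ?_⟩
      simp [φ, t, hc.symm, Algebra.TensorProduct.tmul_pow]
  have hinj : Function.Injective (PrimeSpectrum.comap φ.toRingHom) := by
    intro p q hpq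
    ext z
    obtain ⟨m, w, hw⟩ := key z
    have hp : ∀ P : PrimeSpectrum (L ⊗[A] B'), z ∈ P.asIdeal ↔ w ∈ (PrimeSpectrum.comap φ.toRingHom P).asIdeal := by
      intro P
      show z ∈ P.asIdeal ↔ φ w ∈ P.asIdeal
      rw [hw, P.asIdeal.mul_unit_mem_iff_mem (ht.pow m)]
    rw [hp p, hp q, hpq]
  refine (ENat.card_le_card_of_injective hinj).trans
    ((card_primeSpectrum_le_finrank L (L ⊗[A] C)).trans ?_)
  rw [Nat.cast_le]
  refine (LinearMap.finrank_le_finrank_of_surjective (f := v.baseChange L)
    (LinearMap.lTensor_surjective L hv)).trans ?_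
  rcases subsingleton_or_nontrivial A with h | h
  · have : Subsingleton L := (algebraMap A L).codomain_trivial
    exact absurd (Subsingleton.elim (0 : L) 1) zero_ne_one
  · rw [Module.finrank_baseChange, Module.finrank_fintype_fun_eq_card, Fintype.card_fin]

/-- Pullbacks are unchanged by composing with a monomorphism. -/
noncomputable def pullbackCompMonoIso {S T A B : Scheme.{u}} (i : S ⟶ T) [Mono i] (a : A ⟶ S) (b : B ⟶ S) :
    pullback (a ≫ i) (b ≫ i) ≅ pullback a b where
  hom := pullback.lift (pullback.fst _ _) (pullback.snd _ _)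
    ((cancel_mono i).mp (by simpa only [Category.assoc] using pullback.condition))
  inv := pullback.lift (pullback.fst _ _) (pullback.snd _ _) (by rw [pullback.condition_assoc])
  hom_inv_id := by
    apply pullback.hom_ext
    · rw [Category.assoc, pullback.lift_fst, pullback.lift_fst, Category.id_comp]
    · rw [Category.assoc, pullback.lift_snd, pullback.lift_snd, Category.id_comp]
  inv_hom_id := by
    apply pullback.hom_ext
    · rw [Category.assoc, pullback.lift_fst, pullback.lift_fst, Category.id_comp]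
    · rw [Category.assoc, pullback.lift_snd, pullback.lift_snd, Category.id_comp]

variable {X Y : Scheme.{u}} (f : X ⟶ Y)

/-- The point of `Y` given by a separable closure of a residue field. -/
noncomputable def sepPoint (y : Y) : Spec (CommRingCat.of (SeparableClosure (Y.residueField y))) ⟶ Y :=
  Spec.map (CommRingCat.ofHom (algebraMap (Y.residueField y) (SeparableClosure (Y.residueField y)))) ≫
    Y.fromSpecResidueField y

/-- The geometric fibre is the pullback along `sepPoint`. -/
noncomputable def geomFiberIso (y : Y) : MoreMor.geomFiber f y ≅ pullback f (sepPoint y) :=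
  pullbackLeftPullbackSndIso _ _ _

theorem bound_near [LocallyQuasiFinite f] [LocallyOfFiniteType f] (x : X) :
    ∃ (U : X.Opens) (n : ℕ), x ∈ U ∧ ∀ (L : Type u) [Field L] (σ : Spec (CommRingCat.of L) ⟶ Y),
      ENat.card {z : ↑(pullback f σ) // pullback.fst f σ z ∈ U} ≤ n := by
  obtain ⟨_, ⟨V, hV, rfl⟩, hxV, -⟩ := Y.isBasis_affineOpens.exists_subset_of_mem_open
    (Set.mem_univ (f x)) isOpen_univ
  obtain ⟨_, ⟨W, hW, rfl⟩, hxW, hWV : W ≤ f ⁻¹ᵁ V⟩ :=
    X.isBasis_affineOpens.exists_subset_of_mem_open hxV (f ⁻¹ᵁ V).2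
  replace hV : IsAffineOpen V := hV
  replace hW : IsAffineOpen W := hW
  have hft : (f.appLE V W hWV).hom.FiniteType := f.finiteType_appLE hV hW hWV
  have hqf := (f.quasiFiniteAt x).quasiFiniteAt hW hV hWV hxW
  algebraize [(f.appLE V W hWV).hom]
  let p := (hW.primeIdealOf ⟨x, hxW⟩).asIdeal
  have : Algebra.QuasiFiniteAt Γ(Y, V) p := hqf
  obtain ⟨C, hC, r, hrp, hbij⟩ :=
    Algebra.QuasiFiniteAt.exists_fg_and_exists_notMem_and_awayMap_bijective (R := Γ(Y, V)) p
  have : Module.Finite Γ(Y, V) C := ⟨(Submodule.fg_top _).mpr hC⟩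
  obtain ⟨n, v, hv⟩ := Module.Finite.exists_fin' Γ(Y, V) C
  let B' := Localization.Away (r : Γ(X, W))
  have hloc : IsLocalization.Away r B' := by
    let e : Localization.Away r ≃+* B' := RingEquiv.ofBijective (Localization.awayMap C.val.toRingHom r) hbij
    let e' : Localization.Away r ≃ₐ[C] B' :=
      AlgEquiv.ofRingEquiv (f := e) fun c => by
        show Localization.awayMap C.val.toRingHom r (algebraMap C (Localization.Away r) c) = _
        rw [Localization.awayMap, IsLocalization.Away.map, IsLocalization.map_eq]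
        rfl
    exact IsLocalization.isLocalization_of_algEquiv (Submonoid.powers r) e'
  let j : Spec (CommRingCat.of B') ⟶ X :=
    Spec.map (CommRingCat.ofHom (algebraMap Γ(X, W) B')) ≫ hW.fromSpec
  have : IsOpenImmersion (Spec.map (CommRingCat.ofHom (algebraMap Γ(X, W) B'))) :=
    IsOpenImmersion.of_isLocalization (r : Γ(X, W))
  have : IsOpenImmersion j := inferInstanceAs (IsOpenImmersion (_ ≫ _))
  have hjf : j ≫ f = Spec.map (CommRingCat.ofHom (algebraMap Γ(Y, V) B')) ≫ hV.fromSpec := by
    rw [Category.assoc, ← hV.SpecMap_appLE_fromSpec f hW hWV, ← Spec.map_comp_assoc]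
    rfl
  refine ⟨j.opensRange, n, ?_, ?_⟩
  · have hx' : hW.primeIdealOf ⟨x, hxW⟩ ∈
        Set.range (PrimeSpectrum.comap (algebraMap Γ(X, W) B')) := by
      rw [PrimeSpectrum.localization_away_comap_range B' (r : Γ(X, W))]
      exact hrp
    obtain ⟨q, hq⟩ := hx'
    refine ⟨q, ?_⟩
    show hW.fromSpec ((Spec.map (CommRingCat.ofHom (algebraMap Γ(X, W) B'))) q) = x
    rw [show (Spec.map (CommRingCat.ofHom (algebraMap Γ(X, W) B'))) q = hW.primeIdealOf ⟨x, hxW⟩ from hq]
    exact hW.fromSpec_primeIdealOf ⟨x, hxW⟩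
  intro L _ σ
  by_cases hne : IsEmpty {z : ↑(pullback f σ) // pullback.fst f σ z ∈ j.opensRange}
  · rw [(ENat.card_eq_zero_iff_empty _).mpr hne]
    exact bot_le
  obtain ⟨⟨z, hz⟩⟩ := not_isEmpty_iff.mp hne
  have hσ : Set.range σ ⊆ Set.range hV.fromSpec := by
    rw [hV.range_fromSpec]
    rintro _ ⟨s, rfl⟩
    obtain rfl : s = pullback.snd f σ z :=
      Subsingleton.elim (α := PrimeSpectrum L) s (pullback.snd f σ z)
    rw [← Scheme.Hom.comp_apply, ← pullback.condition, Scheme.Hom.comp_apply]
    obtain ⟨q, hq⟩ := hz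
    rw [← hq, ← Scheme.Hom.comp_apply, hjf, Scheme.Hom.comp_apply]
    exact hV.range_fromSpec ▸ Set.mem_range_self _
  obtain ⟨ψ, hψ⟩ := Spec.map_surjective (IsOpenImmersion.lift hV.fromSpec σ hσ)
  have hσ' : σ = Spec.map ψ ≫ hV.fromSpec := by rw [hψ, IsOpenImmersion.lift_fac]
  let _ : Algebra Γ(Y, V) L := ψ.hom.toAlgebra
  let P := pullback (pullback.fst f σ) j
  have hrange : Set.range (pullback.fst (pullback.fst f σ) j) =
      {z | pullback.fst f σ z ∈ j.opensRange} := IsOpenImmersion.range_pullbackFst j (pullback.fst f σ)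
  let e : P ≅ Spec (CommRingCat.of (L ⊗[Γ(Y, V)] B')) :=
    pullbackSymmetry _ _ ≪≫ pullbackRightPullbackFstIso f σ j ≪≫
      pullback.congrHom hjf hσ' ≪≫
      pullbackCompMonoIso hV.fromSpec _ _ ≪≫
      pullbackSymmetry _ _ ≪≫ pullbackSpecIso Γ(Y, V) L B'
  refine le_trans ?_ (card_primeSpectrum_localization_tensor_le (B' := B') r n v hv L)
  let g : {z : ↑(pullback f σ) // pullback.fst f σ z ∈ j.opensRange} → ↑P := fun z =>
    (show z.1 ∈ Set.range (pullback.fst (pullback.fst f σ) j) from hrange ▸ z.2).choose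
  have hg : Function.Injective g := fun a b h => by
    apply Subtype.ext
    rw [← (show a.1 ∈ Set.range (pullback.fst (pullback.fst f σ) j) from hrange ▸ a.2).choose_spec,
      ← (show b.1 ∈ Set.range (pullback.fst (pullback.fst f σ) j) from hrange ▸ b.2).choose_spec]
    exact congrArg _ h
  exact ENat.card_le_card_of_injective
    (f := fun z => (e.hom.homeomorph (g z) : PrimeSpectrum (L ⊗[Γ(Y, V)] B')))
    (e.hom.homeomorph.injective.comp hg)

theorem card_bounded [LocallyQuasiFinite f] [LocallyOfFiniteType f] [CompactSpace X] :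
    ∃ d : ℕ, ∀ y : Y, ENat.card ↑(MoreMor.geomFiber f y) ≤ d := by
  choose U n hxU hn using bound_near f
  obtain ⟨t, ht⟩ := isCompact_univ.elim_finite_subcover (fun x => (U x : Set X)) (fun x => (U x).2)
    fun x _ => Set.mem_iUnion.mpr ⟨x, hxU x⟩
  refine ⟨∑ x ∈ t, n x, fun y => ?_⟩
  rw [ENat.card_congr (geomFiberIso f y).hom.homeomorph.toEquiv]
  let σ := sepPoint y
  calc ENat.card ↑(pullback f σ)
      = Set.encard (⋃ x ∈ t, {z : ↑(pullback f σ) | pullback.fst f σ z ∈ U x}) := by
        rw [← Set.encard_univ]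
        congr 1
        refine (Set.eq_univ_iff_forall.mpr fun z => ?_).symm
        simpa using ht (Set.mem_univ (pullback.fst f σ z))
    _ ≤ ∑ x ∈ t, Set.encard {z : ↑(pullback f σ) | pullback.fst f σ z ∈ U x} :=
        Finset.set_encard_biUnion_le t _
    _ ≤ ∑ x ∈ t, (n x : ℕ∞) := Finset.sum_le_sum fun x _ => hn x _ σ
    _ = _ := by rw [Nat.cast_sum]

theorem discreteTopology_geomFiber [LocallyQuasiFinite f] (y : Y) :
    DiscreteTopology ↑(MoreMor.geomFiber f y) := by
  have h : IsLocallyArtinian (pullback f (sepPoint y)) :=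
    IsLocallyArtinian.of_locallyQuasiFinite (pullback.snd f (sepPoint y))
  have := (IsLocallyArtinian.iff_isLocallyNoetherian_and_discreteTopology.mp h).2
  exact (geomFiberIso f y).hom.homeomorph.symm.discreteTopology

theorem nGeomConnComp_eq_card [LocallyQuasiFinite f] (y : Y) :
    MoreMor.nGeomConnComp f y = ENat.card ↑(MoreMor.geomFiber f y) := by
  have := discreteTopology_geomFiber f y
  refine (ENat.card_congr (Equiv.ofBijective ConnectedComponents.mk
    ⟨fun a b h => ?_, ConnectedComponents.surjective_coe⟩)).symm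
  simpa [ConnectedComponents.coe_eq_coe', connectedComponent_eq_singleton] using h

theorem irreducibleComponents_eq_range_singleton {T : Type u} [TopologicalSpace T] [DiscreteTopology T] :
    irreducibleComponents T = Set.range (fun t : T => ({t} : Set T)) := by
  ext s
  constructor
  · rintro ⟨hs, hmax⟩
    obtain ⟨t, ht⟩ := hs.nonempty
    refine ⟨t, Set.Subset.antisymm (Set.singleton_subset_iff.mpr ht) fun a ha => ?_⟩
    exact (hs.isConnected.isPreconnected.subsingleton ha ht)
  · rintro ⟨t, rfl⟩
    exact ⟨isIrreducible_singleton, fun u hu h a ha =>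
      hu.isConnected.isPreconnected.subsingleton ha (h rfl)⟩

theorem nGeomIrredComp_eq_card [LocallyQuasiFinite f] (y : Y) :
    MoreMor.nGeomIrredComp f y = ENat.card ↑(MoreMor.geomFiber f y) := by
  have := discreteTopology_geomFiber f y
  rw [MoreMor.nGeomIrredComp, irreducibleComponents_eq_range_singleton, ← Set.image_univ,
    Set.InjOn.encard_image (fun a _ b _ h => Set.singleton_injective h), Set.encard_univ]

end Groth.Agent.FlatMorGeom
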