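import Mathlib
import Groth.Prelude.Def_MoreMor

/-! Affine stratifications. -/

universe u v

namespace Groth.Agent.FlatMorGeom

open AlgebraicGeometry CategoryTheory Limits TopologicalSpace

/-- An affine stratum with underlying set `S`. -/
def IsAffineStratum {X : Scheme.{u}} (S : Set X) : Prop :=
  ∃ (Z : Scheme.{u}) (ι : Z ⟶ X), IsImmersion ι ∧ IsAffine Z ∧ IsAffineHom ι ∧ Set.range ι = S

theorem isAffineStratum_empty (X : Scheme.{u}) : IsAffineStratum (∅ : Set X) :=
  ⟨∅, Scheme.emptyTo X, inferInstance, inferInstance,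
    isAffineHom_of_isInducing _ (Scheme.emptyTo X).isEmbedding.isInducing
      (by simp [Set.range_eq_empty]), Set.range_eq_empty _⟩

/-- The reduced closed subscheme of an open with underlying set `T`. -/
theorem exists_closed_in_open {X : Scheme.{u}} (V : X.Opens) (hV : IsAffineOpen V) (T : Set X)
    (hTV : T ⊆ V) (hT : IsClosed (Subtype.val ⁻¹' T : Set V)) :
    ∃ (Z : Scheme.{u}) (j : Z ⟶ (V : Scheme.{u})),
      IsClosedImmersion j ∧ IsAffine Z ∧ Set.range (j ≫ V.ι) = T := by
  have : IsAffine (V : Scheme.{u}) := hV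
  let C : Closeds (V : Scheme.{u}) := ⟨V.ι ⁻¹' T, hT⟩
  refine ⟨_, (Scheme.IdealSheafData.vanishingIdeal C).subschemeι, inferInstance,
    isAffine_of_isAffineHom (Scheme.IdealSheafData.vanishingIdeal C).subschemeι, ?_⟩
  rw [Scheme.Hom.comp_base, TopCat.coe_comp, Set.range_comp,
    Scheme.IdealSheafData.range_subschemeι, Scheme.IdealSheafData.coe_support_vanishingIdeal]
  show V.ι '' (V.ι ⁻¹' T) = T
  rw [Set.image_preimage_eq_inter_range, Scheme.Opens.range_ι, Set.inter_eq_left]
  exact hTV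

theorem isAffineStratum_of_isSeparated {X : Scheme.{u}} [X.IsSeparated] (V : X.Opens)
    (hV : IsAffineOpen V) (T : Set X) (hTV : T ⊆ V) (hT : IsClosed (Subtype.val ⁻¹' T : Set V)) :
    IsAffineStratum T := by
  obtain ⟨Z, j, hj, hZ, hr⟩ := exists_closed_in_open V hV T hTV hT
  have : IsAffineHom V.ι := isAffineHom_of_forall_exists_isAffineOpen _ fun x => by
    obtain ⟨_, ⟨W, hW, rfl⟩, hxW, -⟩ :=
      X.isBasis_affineOpens.exists_subset_of_mem_open (Set.mem_univ x) isOpen_univ
    refine ⟨W, hxW, hW, ?_⟩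
    rw [← Scheme.Hom.isAffineOpen_iff_of_isOpenImmersion V.ι, V.ι.image_preimage_eq_opensRange_inf,
      Scheme.Opens.opensRange_ι]
    exact hV.inf hW
  exact ⟨Z, j ≫ V.ι, inferInstance, hZ, inferInstance, hr⟩

theorem isAffineStratum_of_dichotomy {X : Scheme.{u}} {α : Type v} (W : α → X.Opens)
    (hW : ∀ a, IsAffineOpen (W a)) (hcov : ∀ x : X, ∃ a, x ∈ W a) (V : X.Opens)
    (hV : IsAffineOpen V) (T : Set X) (hTV : T ⊆ V) (hT : IsClosed (Subtype.val ⁻¹' T : Set V))
    (hdi : ∀ a, T ⊆ W a ∨ Disjoint T (W a : Set X)) :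
    IsAffineStratum T := by
  obtain ⟨Z, j, hj, hZ, hr⟩ := exists_closed_in_open V hV T hTV hT
  have hmem : ∀ z : Z, (j ≫ V.ι) z ∈ T := fun z => hr ▸ Set.mem_range_self z
  refine ⟨Z, j ≫ V.ι, inferInstance, hZ, isAffineHom_of_forall_exists_isAffineOpen _ fun x => ?_, hr⟩
  obtain ⟨a, ha⟩ := hcov x
  refine ⟨W a, ha, hW a, ?_⟩
  rcases hdi a with h | h
  · rw [show (j ≫ V.ι) ⁻¹ᵁ W a = ⊤ from top_le_iff.1 fun z _ => h (hmem z)]
    exact isAffineOpen_top Z
  · rw [show (j ≫ V.ι) ⁻¹ᵁ W a = ⊥ from bot_unique fun z hz => (Set.disjoint_left.1 h (hmem z) hz).elim]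
    exact isAffineOpen_bot Z

/-- A stratification by a finite linear order gives one by `Fin (n+1)`. -/
theorem hasAffineStratification_of_linearOrder {X : Scheme.{u}} {α : Type v} [LinearOrder α]
    [Fintype α] (s : X → α) (hs : ∀ a, IsClosed {x | s x ≤ a})
    (hst : ∀ a, IsAffineStratum {x | s x = a}) :
    ∃ n, MoreMor.HasAffineStratification X n := by
  let e := Fintype.orderIsoFinOfCardEq α rfl
  by_cases h0 : Fintype.card α = 0
  · have : IsEmpty α := Fintype.card_eq_zero_iff.1 h0
    have hX : IsEmpty X := s.isEmpty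
    refine ⟨0, fun _ => 0, fun i => ?_, fun i => (?_ : IsAffineStratum _)⟩
    · convert isClosed_empty; ext x; exact hX.elim x
    · convert isAffineStratum_empty X; ext x; exact hX.elim x
  obtain ⟨n, hn⟩ := Nat.exists_eq_succ_of_ne_zero h0
  let e' : α ≃o Fin (n + 1) := e.symm.trans (Fin.castOrderIso hn)
  refine ⟨n, e' ∘ s, fun i => ?_, fun i => (?_ : IsAffineStratum _)⟩
  · convert hs (e'.symm i) using 1
    ext x
    exact e'.le_symm_apply.symm
  · convert hst (e'.symm i) using 1
    · ext x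
      exact e'.toEquiv.apply_eq_iff_eq_symm_apply

/-- The binary encoding of memberships in a finite family of opens. -/
theorem exists_affineStratification_of_qcqs (X : Scheme.{u}) [CompactSpace X] [QuasiSeparatedSpace X] :
    ∃ n, MoreMor.HasAffineStratification X n := by
  classical
  let C := X.affineCover.finiteSubcover
  let ι := C.I₀
  haveI : Fintype ι := Fintype.ofFinite ι
  letI : LinearOrder ι := LinearOrder.lift' (Fintype.equivFin ι) (Equiv.injective _)
  let U : ι → X.Opens := fun i => (C.f i).opensRange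
  have hU : ∀ i, IsAffineOpen (U i) := fun i => isAffineOpen_opensRange _
  have hcovU : ∀ x : X, ∃ i, x ∈ U i := fun x => ⟨C.idx x, C.covers x⟩
  have hdec : ∀ i j, ∃ s : Finset Γ(X, U i), U i ⊓ U j = ⨆ f ∈ s, X.basicOpen f := by
    intro i j
    have hcpt : IsCompact ((U i ⊓ U j : X.Opens) : Set X) :=
      QuasiSeparatedSpace.inter_isCompact _ _ (U i).2 (hU i).isCompact (U j).2 (hU j).isCompact
    have hb : ∀ x : ((U i ⊓ U j : X.Opens) : Set X), ∃ f : Γ(X, U i),
        X.basicOpen f ≤ U i ⊓ U j ∧ (x : X) ∈ X.basicOpen f :=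
      fun x => (hU i).exists_basicOpen_le ⟨x.1, x.2⟩ x.2.1
    choose f hf hxf using hb
    obtain ⟨t, ht⟩ := hcpt.elim_finite_subcover (fun x => (X.basicOpen (f x) : Set X))
      (fun x => (X.basicOpen (f x)).2) fun x hx => Set.mem_iUnion.2 ⟨⟨x, hx⟩, hxf ⟨x, hx⟩⟩
    refine ⟨t.image f, le_antisymm (fun x hx => ?_) (iSup₂_le fun g hg => ?_)⟩
    · obtain ⟨y, hy, hxy⟩ := Set.mem_iUnion₂.1 (ht hx)
      exact Opens.mem_iSup.2 ⟨f y, Opens.mem_iSup.2 ⟨Finset.mem_image_of_mem f hy, hxy⟩⟩
    · obtain ⟨y, -, rfl⟩ := Finset.mem_image.1 hg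
      exact hf y
  choose F hF using hdec
  let κ : ι → Type u := fun i => Σ j, F i j
  let O : ∀ i, κ i → X.Opens := fun i k => X.basicOpen k.2.1
  let i₀ : X → ι := fun x => (Finset.univ.filter fun i => x ∈ U i).max'
    (by obtain ⟨i, hi⟩ := hcovU x; exact ⟨i, by simpa using hi⟩)
  have hi₀ : ∀ x, x ∈ U (i₀ x) := fun x => by
    simpa [i₀] using Finset.max'_mem (Finset.univ.filter fun i => x ∈ U i)
      (by obtain ⟨i, hi⟩ := hcovU x; exact ⟨i, by simpa using hi⟩)
  have hi₀' : ∀ x i, x ∈ U i → i ≤ i₀ x := fun x i hi =>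
    Finset.le_max' _ _ (by simpa using hi)
  letI : ∀ i, LinearOrder (κ i) := fun i => LinearOrder.lift' (Fintype.equivFin (κ i)) (Equiv.injective _)
  -- encode the pattern of memberships by a colex-ordered finset
  let pat : X → Σₗ i, Colex (Finset (κ i)) := fun x =>
    toLex ⟨i₀ x, toColex (Finset.univ.filter fun k => x ∈ O (i₀ x) k)⟩
  haveI : Fintype (Σₗ i, Colex (Finset (κ i))) :=
    @Fintype.ofFinite _ (Finite.of_equiv (Σ i, Finset (κ i))
      ((Equiv.sigmaCongrRight fun _ => toColex).trans toLex))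
  refine hasAffineStratification_of_linearOrder pat (fun a => ?_) (fun a => ?_)
  · obtain ⟨⟨i, T⟩, rfl⟩ := toLex.surjective a
    rw [← isOpen_compl_iff, isOpen_iff_forall_mem_open]
    intro x hx
    refine ⟨(U (i₀ x) : Set X) ∩ ⋂ k ∈ (Finset.univ.filter fun k => x ∈ O (i₀ x) k),
      (O (i₀ x) k : Set X), fun y hy hyle => hx ?_,
      (U _).2.inter (isOpen_biInter_finset fun k _ => (O _ k).2), hi₀ x, ?_⟩
    · show pat x ≤ _
      refine le_trans ?_ (show pat y ≤ _ from hyle)
      simp only [pat]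
      rw [Sigma.Lex.le_def]
      rcases lt_or_eq_of_le (hi₀' y _ hy.1) with h | h
      · exact Or.inl h
      · refine Or.inr ⟨h, ?_⟩
        have key : ∀ {i i' : ι} (h : i = i') (P : X → Prop),
            (∀ k, x ∈ O i k → y ∈ O i k) →
            Eq.ndrec (motive := fun i => Colex (Finset (κ i)))
              (toColex (Finset.univ.filter fun k => x ∈ O i k)) h ≤
              toColex (Finset.univ.filter fun k => y ∈ O i' k) := by
          rintro i i' rfl P hk
          exact Finset.Colex.toColex_mono (fun k => by simpa using hk k)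
        exact key h (fun _ => True) fun k hk => Set.mem_iInter₂.1 hy.2 k (by simpa using hk)
    · exact Set.mem_iInter₂.2 fun k hk => (Finset.mem_filter.1 hk).2
  · obtain ⟨⟨i, T⟩, rfl⟩ := toLex.surjective a
    by_cases hne : {x | pat x = toLex ⟨i, T⟩} = ∅
    · exact hne ▸ isAffineStratum_empty X
    -- description of the level set
    have hmem : ∀ x, pat x = toLex ⟨i, T⟩ ↔
        (x ∈ U i ∧ (∀ i', i < i' → x ∉ U i') ∧ ∀ k, x ∈ O i k ↔ k ∈ ofColex T) := by
      intro x
      constructor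
      · intro h
        simp only [pat, toLex_inj] at h
        obtain ⟨h1, h2⟩ := Sigma.mk.inj_iff.1 h
        subst h1
        rw [heq_eq_eq] at h2
        subst h2
        exact ⟨hi₀ x, fun i' hi' h => absurd (hi₀' x i' h) (not_le.2 hi'), fun k => by simp⟩
      · rintro ⟨h1, h2, h3⟩
        have : i₀ x = i := le_antisymm (not_lt.1 fun h => h2 _ h (hi₀ x)) (hi₀' x i h1)
        subst this
        simp only [pat]
        congr 2
        apply congrArg toColex
        ext k
        have h := h3 k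
        simp only [Finset.mem_filter, Finset.mem_univ, true_and]
        exact h
    let V : X.Opens := U i ⊓ (ofColex T).inf (O i)
    have hV : IsAffineOpen V := by
      have : ∃ g : Γ(X, U i), V = X.basicOpen g := by
        refine ⟨(ofColex T).prod fun k => k.2.1, ?_⟩
        · simp only [V, O]
          induction ofColex T using Finset.induction_on with
          | empty => simp [Scheme.basicOpen_of_isUnit _ isUnit_one]
          | insert k s hks ih =>
            rw [Finset.inf_insert, Finset.prod_insert hks, Scheme.basicOpen_mul, ← ih,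
              inf_left_comm]
      obtain ⟨g, hg⟩ := this
      exact hg ▸ (hU i).basicOpen g
    refine isAffineStratum_of_dichotomy U hU hcovU V hV _ (fun x hx => ?_) ?_ fun j => ?_
    · obtain ⟨h1, -, h3⟩ := (hmem x).1 hx
      refine ⟨h1, ?_⟩
      simp only [SetLike.mem_coe, Opens.coe_finset_inf, Finset.inf_set_eq_iInter, Set.mem_iInter,
        Function.comp_apply]
      exact fun k hk => (h3 k).2 hk
    · have : (Subtype.val ⁻¹' {x | pat x = toLex ⟨i, T⟩} : Set V) = Subtype.val ⁻¹'
          (((⋃ i' ∈ Set.Ioi i, (U i' : Set X)) ∪ ⋃ k ∈ (ofColex T : Finset (κ i))ᶜ, (O i k : Set X))ᶜ) := by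
        ext ⟨x, hxU, hxT⟩
        show pat x = _ ↔ x ∈ (_ : Set X)ᶜ
        simp only [SetLike.mem_coe, Opens.coe_finset_inf, Finset.inf_set_eq_iInter, Set.mem_iInter,
          Function.comp_apply] at hxT
        simp only [Set.mem_preimage, Set.mem_setOf_eq, hmem, Set.mem_compl_iff, Set.mem_union,
          Set.mem_iUnion, Finset.mem_compl, Set.mem_Ioi, not_or, not_exists, SetLike.mem_coe]
        exact ⟨fun h => ⟨h.2.1, fun k hk hx => hk ((h.2.2 k).1 hx)⟩,
          fun h => ⟨hxU, h.1, fun k => ⟨fun hx => not_not.1 fun hk => h.2 k hk hx, hxT k⟩⟩⟩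
      rw [this]
      exact ((isOpen_biUnion fun _ _ => (U _).2).union
        (isOpen_biUnion fun _ _ => (O _ _).2)).isClosed_compl.preimage continuous_subtype_val
    · by_cases hj : ∃ k ∈ ofColex T, k.1 = j
      · obtain ⟨k, hk, rfl⟩ := hj
        left
        intro x hx
        have : x ∈ O i k := (((hmem x).1 hx).2.2 k).2 hk
        have hle : O i k ≤ U i ⊓ U k.1 := by
          rw [hF]; exact le_iSup₂_of_le k.2.1 k.2.2 le_rfl
        exact (hle this).2
      · right
        push Not at hj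
        rw [Set.disjoint_left]
        intro x hx hxj
        obtain ⟨h1, -, h3⟩ := (hmem x).1 hx
        have : x ∈ U i ⊓ U j := ⟨h1, hxj⟩
        rw [hF, Opens.mem_iSup] at this
        obtain ⟨f, hf⟩ := this
        obtain ⟨hfs, hxf⟩ := Opens.mem_iSup.1 hf
        exact hj ⟨j, f, hfs⟩ ((h3 ⟨j, f, hfs⟩).1 hxf) rfl

theorem qcqs_of_hasAffineStratification {X : Scheme.{u}} {n : ℕ}
    (h : MoreMor.HasAffineStratification X n) : CompactSpace X ∧ QuasiSeparatedSpace X := by
  obtain ⟨s, -, hst⟩ := h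
  choose Z ι hι hZ hιa hr using hst
  have hx : ∀ x : X, x ∈ Set.range (ι (s x)) := fun x => by rw [hr]; rfl
  constructor
  · refine ⟨?_⟩
    rw [show (Set.univ : Set X) = ⋃ i, Set.range (ι i) from
      (Set.eq_univ_of_forall fun x => Set.mem_iUnion.2 ⟨s x, hx x⟩).symm]
    exact isCompact_iUnion fun i => by
      have := hZ i
      exact isCompact_range (ι i).continuous
  · rw [quasiSeparatedSpace_iff_forall_affineOpens]
    intro V W
    rw [show (V : Set X) ∩ W = ⋃ i, ι i '' (((ι i ⁻¹ᵁ V.1) ⊓ (ι i ⁻¹ᵁ W.1) : (Z i).Opens) : Set (Z i)) by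
      ext x
      simp only [Set.mem_iUnion, Set.mem_image]
      constructor
      · intro hxVW
        obtain ⟨z, hz⟩ := hx x
        exact ⟨s x, z, ⟨show ι _ z ∈ V.1 by rw [hz]; exact hxVW.1,
          show ι _ z ∈ W.1 by rw [hz]; exact hxVW.2⟩, hz⟩
      · rintro ⟨i, z, hz, rfl⟩; exact hz]
    refine isCompact_iUnion fun i => IsCompact.image ?_ (ι i).continuous
    have := hZ i
    have := hιa i
    exact ((V.2.preimage (ι i)).inf (W.2.preimage (ι i))).isCompact

end Groth.Agent.FlatMorGeom
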