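import Mathlib
import Groth.Agent.CAlgML.Projective

/-!
Retractions of first order extensions with local lifting property
(algebraic core of "formally smooth is local").
-/

universe u

namespace Groth.Agent.FlatMorGeom

open TensorProduct

variable {A : Type u} [CommRing A]

theorem projective_of_retract_family {S : Type u} [CommRing S] {X : Type u} [AddCommGroup X]
    [Module S X] {κ : Type*} [Fintype κ] {Y : κ → Type u} [∀ i, AddCommGroup (Y i)]
    [∀ i, Module S (Y i)] (u' : ∀ i, X →ₗ[S] Y i) (v : ∀ i, Y i →ₗ[S] X)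
    (h : ∀ x, ∑ i, v i (u' i x) = x) [∀ i, Module.Projective S (Y i)] : Module.Projective S X := by
  classical
  refine .of_lifting_property fun f g hf => ?_
  choose l hl using fun i => Module.projective_lifting_property f (g ∘ₗ v i) hf
  refine ⟨∑ i, l i ∘ₗ u' i, LinearMap.ext fun x => ?_⟩
  have hl' : ∀ i y, f (l i y) = g (v i y) := fun i y => LinearMap.congr_fun (hl i) y
  simp only [LinearMap.comp_apply, LinearMap.sum_apply, map_sum, hl']
  rw [← map_sum, h]

/-- Zariski descent of projectivity. -/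
theorem projective_of_span_eq_top {R : Type u} [CommRing R] {M : Type u} [AddCommGroup M]
    [Module R M] {κ : Type u} [Fintype κ] (g : κ → R) (hg : Ideal.span (Set.range g) = ⊤)
    (h : ∀ i, Module.Projective (Localization.Away (g i)) (Localization.Away (g i) ⊗[R] M)) :
    Module.Projective R M := by
  classical
  let S := ∀ i, Localization.Away (g i)
  haveI : Module.Flat R S :=
    Module.Flat.of_linearEquiv
      (DirectSum.linearEquivFunOnFintype R κ fun i => Localization.Away (g i)).symm
  haveI : Module.FaithfullyFlat R S := by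
    refine Module.FaithfullyFlat.of_comap_surjective fun P => ?_
    obtain ⟨i, hi⟩ : ∃ i, g i ∉ P.asIdeal := by
      by_contra hc; push Not at hc
      exact P.2.ne_top (top_le_iff.1 (hg ▸ Ideal.span_le.2 (Set.range_subset_iff.2 hc)))
    obtain ⟨Q, hQ⟩ : P ∈ Set.range (PrimeSpectrum.comap (algebraMap R (Localization.Away (g i)))) := by
      rw [PrimeSpectrum.localization_away_comap_range _ (g i)]; exact hi
    refine ⟨Q.comap (Pi.evalRingHom (fun i => Localization.Away (g i)) i), ?_⟩
    rw [← hQ]; rfl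
  letI : ∀ i, Algebra S (Localization.Away (g i)) := fun i =>
    (Pi.evalRingHom (fun i => Localization.Away (g i)) i).toAlgebra
  haveI : ∀ i, IsScalarTower R S (Localization.Away (g i)) := fun i =>
    IsScalarTower.of_algebraMap_eq fun _ => rfl
  let inj : ∀ i, Localization.Away (g i) →ₗ[S] S := fun i =>
    { toFun := fun a => (Pi.single i a : ∀ j, Localization.Away (g j))
      map_add' := fun a b => by
        funext j
        have hP : ∀ c, ((Pi.single i c : ∀ j, Localization.Away (g j))) j =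
            if h : j = i then h ▸ c else 0 := fun c => by simp [Pi.single, Function.update]
        show _ = (Pi.single i a : ∀ j, Localization.Away (g j)) j + (Pi.single i b : ∀ j, Localization.Away (g j)) j
        rw [hP, hP, hP]
        split_ifs with h
        · subst h; rfl
        · rw [add_zero]
      map_smul' := fun s a => by
        funext j
        have hP : ∀ c, ((Pi.single i c : ∀ j, Localization.Away (g j))) j =
            if h : j = i then h ▸ c else 0 := fun c => by simp [Pi.single, Function.update]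
        show _ = s j * (Pi.single i a : ∀ j, Localization.Away (g j)) j
        rw [hP, hP]
        split_ifs with h
        · subst h; rfl
        · rw [mul_zero] }
  haveI : ∀ i, Module.Projective S (Localization.Away (g i)) := fun i =>
    .of_split (inj i) (Algebra.linearMap S _) (LinearMap.ext fun a => by
      show Pi.single (M := fun i => Localization.Away (g i)) i a i = a
      simp)
  haveI : ∀ i, Module.Projective S (Localization.Away (g i) ⊗[R] M) := fun i => by
    haveI := h i
    obtain ⟨sec, hsec⟩ := Module.projective_lifting_property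
      (Finsupp.linearCombination (Localization.Away (g i)) (id : Localization.Away (g i) ⊗[R] M → _))
      LinearMap.id (Finsupp.linearCombination_id_surjective _ _)
    haveI : Module.Projective S ((Localization.Away (g i) ⊗[R] M) →₀ Localization.Away (g i)) :=
      .of_equiv (finsuppLEquivDirectSum S (Localization.Away (g i)) _).symm
    exact .of_split (sec.restrictScalars S) ((Finsupp.linearCombination _ id).restrictScalars S)
      (LinearMap.ext fun x => LinearMap.congr_fun hsec x)
  haveI : Module.Projective S (S ⊗[R] M) := projective_of_retract_family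
    (u' := fun i => AlgebraTensorModule.map (Algebra.linearMap S (Localization.Away (g i))) LinearMap.id)
    (v := fun i => AlgebraTensorModule.map (inj i) LinearMap.id) fun x => by
      induction x using TensorProduct.induction_on with
      | zero => simp
      | tmul s m =>
        simp only [AlgebraTensorModule.map_tmul, LinearMap.id_apply, ← TensorProduct.sum_tmul]
        congr 1
        exact Finset.univ_sum_single s
      | add x y hx hy => simp only [map_add, Finset.sum_add_distrib, hx, hy]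
  exact CAlgML.projective_descent (S := S)

/-- Lifting property of the extension `σ : E → A/I` over `D(g)`. -/
def HasLocalLift (I : Ideal A) {E : Type u} [CommRing E] (ι : A →+* E) (σ : E →+* A ⧸ I) (g : A) :
    Prop :=
  ∀ (B B'' : Type u) [CommRing B] [CommRing B''] (β : A →+* B) (p : B →+* B'')
    (π : B'' →+* Localization.Away (Ideal.Quotient.mk I g)) (h : E →+* B''),
    IsUnit (β g) → Function.Surjective p → RingHom.ker (π.comp p) ^ 2 = ⊥ →
    π.comp (p.comp β) = (algebraMap (A ⧸ I) (Localization.Away (Ideal.Quotient.mk I g))).comp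
      (Ideal.Quotient.mk I) →
    h.comp ι = p.comp β →
    π.comp h = (algebraMap (A ⧸ I) (Localization.Away (Ideal.Quotient.mk I g))).comp σ →
    ∃ h' : E →+* B, h'.comp ι = β ∧ p.comp h' = h

variable {I : Ideal A}

theorem ker_awayMap_sq (hI : I ^ 2 = ⊥) (g : A) :
    RingHom.ker (Localization.awayMap (Ideal.Quotient.mk I) g) ^ 2 = ⊥ := by
  have hle : RingHom.ker (Localization.awayMap (Ideal.Quotient.mk I) g) ≤
      I.map (algebraMap A (Localization.Away g)) := by
    intro x hx
    obtain ⟨a, ⟨_, k, rfl⟩, rfl⟩ := IsLocalization.exists_mk'_eq (Submonoid.powers g) x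
    rw [RingHom.mem_ker, Localization.awayMap, IsLocalization.Away.map, IsLocalization.map_mk',
      IsLocalization.mk'_eq_zero_iff] at hx
    obtain ⟨⟨_, l, rfl⟩, hl⟩ := hx
    replace hl : Ideal.Quotient.mk I g ^ l * Ideal.Quotient.mk I a = 0 := hl
    rw [← map_pow, ← map_mul, Ideal.Quotient.eq_zero_iff_mem] at hl
    rw [IsLocalization.mem_map_algebraMap_iff (Submonoid.powers g)]
    refine ⟨⟨⟨_, hl⟩, ⟨g ^ l * g ^ k, l + k, pow_add g l k⟩⟩, ?_⟩
    simp only
    rw [map_mul, ← mul_assoc, mul_comm (IsLocalization.mk' _ a _) _, mul_assoc,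
      IsLocalization.mk'_spec, map_mul]
  rw [eq_bot_iff]
  calc _ ≤ (I.map (algebraMap A (Localization.Away g))) ^ 2 := Ideal.pow_right_mono hle 2
    _ = ⊥ := by rw [← Ideal.map_pow, hI, Ideal.map_bot]

theorem awayMap_surjective (g : A) :
    Function.Surjective (Localization.awayMap (Ideal.Quotient.mk I) g) := by
  intro y
  obtain ⟨a, ⟨_, k, rfl⟩, rfl⟩ := IsLocalization.exists_mk'_eq (Submonoid.powers (Ideal.Quotient.mk I g)) y
  obtain ⟨a, rfl⟩ := Ideal.Quotient.mk_surjective a
  refine ⟨IsLocalization.mk' _ a (⟨g ^ k, k, rfl⟩ : Submonoid.powers g), ?_⟩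
  rw [Localization.awayMap, IsLocalization.Away.map, IsLocalization.map_mk']
  congr 1

variable {E : Type u} [CommRing E] [Algebra A E] (σ : E →ₐ[A] A ⧸ I)

/-- the kernel as an `A`-submodule -/
abbrev kerSub : Submodule A E := LinearMap.ker σ.toLinearMap

/-- the image of `I` in the kernel -/
noncomputable def toKer : I →ₗ[A] kerSub σ :=
  ((Algebra.linearMap A E).comp I.subtype).codRestrict (kerSub σ) fun i => by
    show σ (algebraMap A E i) = 0
    rw [σ.commutes, Ideal.Quotient.algebraMap_eq, Ideal.Quotient.eq_zero_iff_mem]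
    exact i.2

@[simp] theorem toKer_coe (i : I) : (toKer σ i : E) = algebraMap A E i := rfl

/-- conormal module modulo `I` -/
abbrev Cok : Type u := kerSub σ ⧸ LinearMap.range (toKer σ)

variable {σ}

theorem mul_eq_zero_of_sq (hσ2 : RingHom.ker σ ^ 2 = ⊥) {e e' : E} (he : σ e = 0) (he' : σ e' = 0) :
    e * e' = 0 := by
  have : e * e' ∈ RingHom.ker σ ^ 2 := by rw [pow_two]; exact Ideal.mul_mem_mul he he'
  rwa [hσ2, Ideal.mem_bot] at this

theorem sub_rep_mem {e : E} {a : A} (h : σ e = Ideal.Quotient.mk I a) :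
    e - algebraMap A E a ∈ kerSub σ := by
  show σ (e - algebraMap A E a) = 0
  rw [map_sub, σ.commutes, h, Ideal.Quotient.algebraMap_eq, sub_self]

theorem mk_eq_mk (e : E) {a a' : A} (h : σ e = Ideal.Quotient.mk I a)
    (h' : σ e = Ideal.Quotient.mk I a') :
    (Submodule.Quotient.mk ⟨_, sub_rep_mem h⟩ : Cok σ) = Submodule.Quotient.mk ⟨_, sub_rep_mem h'⟩ := by
  rw [Submodule.Quotient.eq]
  have hmem : a' - a ∈ I := Ideal.Quotient.eq.1 (h'.symm.trans h)
  refine ⟨⟨_, hmem⟩, Subtype.ext ?_⟩
  show algebraMap A E (a' - a) = (e - algebraMap A E a) - (e - algebraMap A E a')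
  rw [map_sub]; ring

/-- the derivation `E → N / I` -/
theorem exists_pr (hσ2 : RingHom.ker σ ^ 2 = ⊥) :
    ∃ pr : E → Cok σ, (∀ e a (h : σ e = Ideal.Quotient.mk I a),
        pr e = Submodule.Quotient.mk ⟨_, sub_rep_mem h⟩) ∧
      (∀ x y, pr (x + y) = pr x + pr y) ∧
      (∀ a, pr (algebraMap A E a) = 0) ∧
      (∀ x y a b, σ x = Ideal.Quotient.mk I a → σ y = Ideal.Quotient.mk I b →
        pr (x * y) = a • pr y + b • pr x) ∧
      ∀ n : kerSub σ, pr n = Submodule.Quotient.mk n := by
  have hrep : ∀ e, ∃ a, σ e = Ideal.Quotient.mk I a := fun e =>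
    (Ideal.Quotient.mk_surjective (σ e)).imp fun a h => h.symm
  choose rep hrep using hrep
  refine ⟨fun e => Submodule.Quotient.mk ⟨_, sub_rep_mem (hrep e)⟩,
    fun e a h => mk_eq_mk e (hrep e) h, fun x y => ?_, fun a => ?_, fun x y a b ha hb => ?_,
    fun n => ?_⟩
  · have h : σ (x + y) = Ideal.Quotient.mk I (rep x + rep y) := by rw [map_add, map_add, hrep, hrep]
    dsimp only
    rw [mk_eq_mk _ (hrep (x + y)) h, ← Submodule.Quotient.mk_add]
    congr 1
    refine Subtype.ext ?_
    show x + y - algebraMap A E (rep x + rep y) = (x - algebraMap A E (rep x)) + (y - algebraMap A E (rep y))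
    rw [map_add]; ring
  · have h : σ (algebraMap A E a) = Ideal.Quotient.mk I a := σ.commutes a
    dsimp only
    rw [mk_eq_mk _ (hrep _) h]
    exact (Submodule.Quotient.mk_eq_zero _).2 ⟨0, Subtype.ext (by simp)⟩
  · have h : σ (x * y) = Ideal.Quotient.mk I (a * b) := by rw [map_mul, map_mul, ha, hb]
    dsimp only
    rw [mk_eq_mk _ (hrep _) h, mk_eq_mk _ (hrep x) ha, mk_eq_mk _ (hrep y) hb,
      ← Submodule.Quotient.mk_smul, ← Submodule.Quotient.mk_smul, ← Submodule.Quotient.mk_add]
    congr 1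
    refine Subtype.ext ?_
    show x * y - algebraMap A E (a * b) =
      a • (y - algebraMap A E b) + b • (x - algebraMap A E a)
    have hz := mul_eq_zero_of_sq hσ2 (sub_rep_mem ha) (sub_rep_mem hb)
    rw [Algebra.smul_def, Algebra.smul_def, map_mul]
    linear_combination hz
  · have h : σ (n : E) = Ideal.Quotient.mk I 0 := by rw [map_zero]; exact n.2
    dsimp only
    rw [mk_eq_mk _ (hrep _) h]
    congr 1
    exact Subtype.ext (by simp)

theorem toKer_injective (hI : I ^ 2 = ⊥) (T : Finset A) (hT : Ideal.span (T : Set A) = ⊤)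
    (hL : ∀ g ∈ T, HasLocalLift I (algebraMap A E) σ.toRingHom g) :
    Function.Injective (toKer σ) := by
  rw [injective_iff_map_eq_zero]
  intro i hi
  have hi0 : algebraMap A E (i : A) = 0 := congrArg Subtype.val hi
  have hk : ∀ g ∈ T, ∃ k : ℕ, g ^ k * (i : A) = 0 := by
    intro g hg
    obtain ⟨h', hh1, -⟩ := hL g hg (Localization.Away g)
      (Localization.Away (Ideal.Quotient.mk I g)) (algebraMap A _)
      (Localization.awayMap (Ideal.Quotient.mk I) g) (RingHom.id _)
      ((algebraMap _ _).comp σ.toRingHom) (IsLocalization.Away.algebraMap_isUnit g)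
      (awayMap_surjective g)
      (by rw [RingHom.id_comp]; exact ker_awayMap_sq hI g)
      (RingHom.ext fun a => by simp [Localization.awayMap, IsLocalization.Away.map])
      (RingHom.ext fun a => by simp [Localization.awayMap, IsLocalization.Away.map])
      rfl
    have : algebraMap A (Localization.Away g) (i : A) = 0 := by
      rw [← RingHom.congr_fun hh1 (i : A), RingHom.comp_apply, hi0, map_zero]
    obtain ⟨⟨_, k, rfl⟩, hk⟩ :=
      (IsLocalization.map_eq_zero_iff (Submonoid.powers g) (Localization.Away g) _).1 this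
    exact ⟨k, hk⟩
  have hann : Ideal.span (T : Set A) ≤ (Submodule.span A {(i : A)}).annihilator.radical :=
    Ideal.span_le.2 fun g hg => by
      obtain ⟨k, hk⟩ := hk g hg
      exact ⟨k, Submodule.mem_annihilator_span_singleton _ _ |>.2 hk⟩
  rw [hT, top_le_iff, Ideal.radical_eq_top, Ideal.eq_top_iff_one,
    Submodule.mem_annihilator_span_singleton, one_smul] at hann
  exact Subtype.ext hann

section Lift

variable {g : A} {M M' : Type u} [AddCommGroup M] [AddCommGroup M']
  [Module (Localization.Away (Ideal.Quotient.mk I g)) M]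
  [Module (Localization.Away (Ideal.Quotient.mk I g)) M'] [Module A M] [Module A M']
  [IsScalarTower A (Localization.Away (Ideal.Quotient.mk I g)) M]
  [IsScalarTower A (Localization.Away (Ideal.Quotient.mk I g)) M']

theorem exists_lift_linear (hσ2 : RingHom.ker σ ^ 2 = ⊥)
    (hL : HasLocalLift I (algebraMap A E) σ.toRingHom g)
    (f : M →ₗ[Localization.Away (Ideal.Quotient.mk I g)] M') (hf : Function.Surjective f)
    (φ : Cok σ →ₗ[A] M') :
    ∃ ψ : Cok σ →ₗ[A] M, ∀ x, f (ψ x) = φ x := by
  let Sg := Localization.Away (Ideal.Quotient.mk I g)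
  letI : Module Sgᵐᵒᵖ M := Module.compHom M ((RingHom.id Sg).fromOpposite mul_comm)
  letI : Module Sgᵐᵒᵖ M' := Module.compHom M' ((RingHom.id Sg).fromOpposite mul_comm)
  haveI : IsCentralScalar Sg M := ⟨fun _ _ => rfl⟩
  haveI : IsCentralScalar Sg M' := ⟨fun _ _ => rfl⟩
  obtain ⟨pr, -, hadd, halg, hmul, hn⟩ := exists_pr hσ2
  have hsg : ∀ (a : A) (m : M'), algebraMap (A ⧸ I) Sg (Ideal.Quotient.mk I a) • m = a • m :=
    fun a m => algebraMap_smul Sg a m
  let mk' : Sg → M' → TrivSqZeroExt Sg M' := fun r m => TrivSqZeroExt.inl r + TrivSqZeroExt.inr m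
  have hfst : ∀ r m, (mk' r m).fst = r := fun r m => by simp [mk']
  have hsnd : ∀ r m, (mk' r m).snd = m := fun r m => by simp [mk']
  have hone : pr 1 = 0 := by rw [← map_one (algebraMap A E), halg]
  have hzero : pr 0 = 0 := by rw [← map_zero (algebraMap A E), halg]
  let hh : E →+* TrivSqZeroExt Sg M' :=
    { toFun := fun e => mk' (algebraMap (A ⧸ I) Sg (σ e)) (φ (pr e))
      map_one' := TrivSqZeroExt.ext (by rw [hfst, map_one, map_one, TrivSqZeroExt.fst_one])
        (by rw [hsnd, hone, map_zero, TrivSqZeroExt.snd_one])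
      map_zero' := TrivSqZeroExt.ext (by rw [hfst, map_zero, map_zero, TrivSqZeroExt.fst_zero])
        (by rw [hsnd, hzero, map_zero, TrivSqZeroExt.snd_zero])
      map_add' := fun x y => TrivSqZeroExt.ext
        (by rw [hfst, TrivSqZeroExt.fst_add, hfst, hfst, map_add, map_add])
        (by rw [hsnd, TrivSqZeroExt.snd_add, hsnd, hsnd, hadd, map_add])
      map_mul' := fun x y => TrivSqZeroExt.ext
        (by rw [TrivSqZeroExt.fst_mul, hfst, hfst, hfst, map_mul, map_mul])
        (by
          obtain ⟨a, ha⟩ := Ideal.Quotient.mk_surjective (σ x)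
          obtain ⟨b, hb⟩ := Ideal.Quotient.mk_surjective (σ y)
          rw [TrivSqZeroExt.snd_mul, hsnd, hsnd, hsnd, hfst, hfst, op_smul_eq_smul,
            hmul x y a b ha.symm hb.symm, ← ha, ← hb, map_add, map_smul, map_smul, hsg, hsg]) }
  let pp : TrivSqZeroExt Sg M →+* TrivSqZeroExt Sg M' :=
    { toFun := fun x => mk' x.fst (f x.snd)
      map_one' := TrivSqZeroExt.ext (by rw [hfst, TrivSqZeroExt.fst_one, TrivSqZeroExt.fst_one]) (by simp [hsnd])
      map_zero' := TrivSqZeroExt.ext (by rw [hfst]; rfl) (by simp [hsnd])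
      map_add' := fun x y => TrivSqZeroExt.ext (by simp [hfst]) (by simp [hsnd])
      map_mul' := fun x y => TrivSqZeroExt.ext (by simp [hfst])
        (by simp [hsnd, hfst, op_smul_eq_smul]) }
  have hpp : Function.Surjective pp := fun y => by
    obtain ⟨m, hm⟩ := hf y.snd
    refine ⟨TrivSqZeroExt.inl y.fst + TrivSqZeroExt.inr m, ?_⟩
    show mk' _ (f _) = y
    refine TrivSqZeroExt.ext ?_ ?_ <;> simp [hfst, hsnd, hm]
  let π : TrivSqZeroExt Sg M' →+* Sg :=
    { toFun := fun x => x.fst
      map_one' := rfl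
      map_zero' := rfl
      map_add' := fun _ _ => rfl
      map_mul' := fun _ _ => TrivSqZeroExt.fst_mul _ _ }
  have hπ2 : RingHom.ker (π.comp pp) ^ 2 = ⊥ := by
    rw [pow_two, eq_bot_iff, Ideal.mul_le]
    intro x hx y hy
    have hx' : x.fst = 0 := (hfst _ _).symm.trans hx
    have hy' : y.fst = 0 := (hfst _ _).symm.trans hy
    rw [Ideal.mem_bot]
    refine TrivSqZeroExt.ext ?_ ?_
    · rw [TrivSqZeroExt.fst_mul, hx', zero_mul]; rfl
    · rw [TrivSqZeroExt.snd_mul, op_smul_eq_smul, hx', hy', zero_smul, zero_smul, add_zero]; rfl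
  let β : A →+* TrivSqZeroExt Sg M :=
    (TrivSqZeroExt.inlHom Sg M).comp ((algebraMap (A ⧸ I) Sg).comp (Ideal.Quotient.mk I))
  have hβ : ∀ a, β a = TrivSqZeroExt.inl (algebraMap (A ⧸ I) Sg (Ideal.Quotient.mk I a)) :=
    fun _ => rfl
  obtain ⟨h', hh1, hh2⟩ := hL (TrivSqZeroExt Sg M) (TrivSqZeroExt Sg M') β pp π hh
    ((IsLocalization.Away.algebraMap_isUnit (Ideal.Quotient.mk I g)).map (TrivSqZeroExt.inlHom Sg M))
    hpp hπ2
    (RingHom.ext fun a => hfst _ _)
    (RingHom.ext fun a => TrivSqZeroExt.ext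
      (by
        show (mk' _ _).fst = (mk' _ _).fst
        rw [hfst, hfst, σ.commutes, hβ, TrivSqZeroExt.fst_inl]; rfl)
      (by
        show (mk' _ _).snd = (mk' _ _).snd
        rw [hsnd, hsnd, halg, map_zero, hβ, TrivSqZeroExt.snd_inl, map_zero]))
    (RingHom.ext fun e => hfst _ _)
  have hh1' : ∀ a, h' (algebraMap A E a) = β a := fun a => RingHom.congr_fun hh1 a
  let ψN : kerSub σ →ₗ[A] M :=
    { toFun := fun n => (h' n.1).snd
      map_add' := fun m n => by rw [Submodule.coe_add, map_add, TrivSqZeroExt.snd_add]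
      map_smul' := fun a n => by
        rw [SetLike.val_smul, Algebra.smul_def, map_mul, hh1', hβ, TrivSqZeroExt.snd_mul,
          op_smul_eq_smul, TrivSqZeroExt.snd_inl, TrivSqZeroExt.fst_inl, smul_zero, add_zero]
        exact algebraMap_smul Sg a _ }
  have hψα : LinearMap.range (toKer σ) ≤ LinearMap.ker ψN := by
    rintro _ ⟨i, rfl⟩
    show (h' (algebraMap A E i)).snd = 0
    rw [hh1', hβ, TrivSqZeroExt.snd_inl]
  refine ⟨(LinearMap.range (toKer σ)).liftQ ψN hψα, fun x => ?_⟩
  obtain ⟨n, rfl⟩ := Submodule.Quotient.mk_surjective _ x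
  have h1 : (pp (h' n.1)).snd = (hh n.1).snd :=
    congrArg (fun z : TrivSqZeroExt Sg M' => z.snd) (RingHom.congr_fun hh2 (n : E))
  show f (h' n.1).snd = _
  calc f (h' n.1).snd = (pp (h' n.1)).snd := (hsnd _ _).symm
    _ = (hh n.1).snd := h1
    _ = φ (pr n.1) := hsnd _ _
    _ = _ := by rw [hn]

end Lift

theorem projective_cok (hσ2 : RingHom.ker σ ^ 2 = ⊥) (T : Finset A)
    (hT : Ideal.span (T : Set A) = ⊤) (hL : ∀ g ∈ T, HasLocalLift I (algebraMap A E) σ.toRingHom g)
    [Module (A ⧸ I) (Cok σ)] [IsScalarTower A (A ⧸ I) (Cok σ)] :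
    Module.Projective (A ⧸ I) (Cok σ) := by
  refine projective_of_span_eq_top (fun g : T => Ideal.Quotient.mk I g.1) ?_ fun g => ?_
  · have : Set.range (fun g : T => Ideal.Quotient.mk I g.1) = Ideal.Quotient.mk I '' (T : Set A) := by
      ext x; simp
    rw [this, ← Ideal.map_span, hT, Ideal.map_top]
  refine Module.Projective.of_lifting_property fun {M M'} _ _ _ _ f φ₀ hf => ?_
  set Sg := Localization.Away (Ideal.Quotient.mk I g.1)
  letI : Module A M := Module.compHom M (algebraMap A Sg)
  letI : Module A M' := Module.compHom M' (algebraMap A Sg)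
  haveI : IsScalarTower A Sg M := IsScalarTower.of_algebraMap_smul fun _ _ => rfl
  haveI : IsScalarTower A Sg M' := IsScalarTower.of_algebraMap_smul fun _ _ => rfl
  let φ : Cok σ →ₗ[A] M' := (φ₀.restrictScalars A) ∘ₗ
    ((TensorProduct.mk (A ⧸ I) Sg (Cok σ) 1).restrictScalars A)
  obtain ⟨ψ, hψ⟩ := exists_lift_linear hσ2 (hL g.1 g.2) f hf φ
  letI : Module (A ⧸ I) M := Module.compHom M (algebraMap (A ⧸ I) Sg)
  haveI : IsScalarTower (A ⧸ I) Sg M := IsScalarTower.of_algebraMap_smul fun _ _ => rfl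
  let ψ' : Cok σ →ₗ[A ⧸ I] M :=
    { toFun := ψ
      map_add' := map_add ψ
      map_smul' := fun b x => by
        obtain ⟨a, rfl⟩ := Ideal.Quotient.mk_surjective b
        rw [← Ideal.Quotient.algebraMap_eq, algebraMap_smul, map_smul]
        rfl }
  refine ⟨LinearMap.liftBaseChange Sg ψ', LinearMap.ext fun z => ?_⟩
  induction z using TensorProduct.induction_on with
  | zero => simp
  | tmul s x =>
    rw [LinearMap.comp_apply, LinearMap.liftBaseChange_tmul, map_smul,
      show f (ψ' x) = φ₀ ((1 : Sg) ⊗ₜ x) from hψ x, ← map_smul, TensorProduct.smul_tmul',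
      smul_eq_mul, mul_one]
  | add x y hx hy => rw [map_add, map_add, hx, hy]

theorem smul_kerSub_eq_zero (hσ2 : RingHom.ker σ ^ 2 = ⊥) (a : A) (ha : a ∈ I) (n : kerSub σ) :
    a • n = 0 := Subtype.ext (by
  rw [SetLike.val_smul, Algebra.smul_def]
  refine mul_eq_zero_of_sq hσ2 ?_ n.2
  rw [σ.commutes]; exact Ideal.Quotient.eq_zero_iff_mem.2 ha)

theorem smul_cok_eq_zero (hσ2 : RingHom.ker σ ^ 2 = ⊥) (a : A) (ha : a ∈ I) (x : Cok σ) :
    a • x = 0 := by
  obtain ⟨n, rfl⟩ := Submodule.Quotient.mk_surjective _ x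
  rw [← Submodule.Quotient.mk_smul, smul_kerSub_eq_zero hσ2 a ha]
  exact (Submodule.Quotient.mk_eq_zero _).2 (Submodule.zero_mem _)

theorem exists_section_cok (hσ2 : RingHom.ker σ ^ 2 = ⊥) (T : Finset A)
    (hT : Ideal.span (T : Set A) = ⊤) (hL : ∀ g ∈ T, HasLocalLift I (algebraMap A E) σ.toRingHom g) :
    ∃ s : Cok σ →ₗ[A] kerSub σ, ∀ x, Submodule.Quotient.mk (s x) = x := by
  have htK : Module.IsTorsionBySet A (kerSub σ) (I : Set A) :=
    fun n a => smul_kerSub_eq_zero hσ2 a a.2 n
  have htQ : Module.IsTorsionBySet A (Cok σ) (I : Set A) :=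
    fun n a => smul_cok_eq_zero hσ2 a a.2 n
  letI : Module (A ⧸ I) (kerSub σ) := htK.module
  letI : Module (A ⧸ I) (Cok σ) := htQ.module
  haveI : IsScalarTower A (A ⧸ I) (kerSub σ) := htK.isScalarTower
  haveI : IsScalarTower A (A ⧸ I) (Cok σ) := htQ.isScalarTower
  haveI := projective_cok hσ2 T hT hL
  let q : kerSub σ →ₗ[A ⧸ I] Cok σ :=
    { toFun := (LinearMap.range (toKer σ)).mkQ
      map_add' := map_add _
      map_smul' := fun b x => by
        obtain ⟨a, rfl⟩ := Ideal.Quotient.mk_surjective b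
        exact (LinearMap.range (toKer σ)).mkQ.map_smul a x }
  have hq : Function.Surjective q := fun y => by
    obtain ⟨n, rfl⟩ := Submodule.Quotient.mk_surjective _ y
    exact ⟨n, rfl⟩
  obtain ⟨s, hs⟩ := Module.projective_lifting_property q (LinearMap.id (R := A ⧸ I) (M := Cok σ)) hq
  let s' : Cok σ →ₗ[A] kerSub σ :=
    { toFun := s
      map_add' := map_add s
      map_smul' := fun a x => by
        rw [RingHom.id_apply, ← algebraMap_smul (A ⧸ I) a x, map_smul, algebraMap_smul] }
  exact ⟨s', fun x => LinearMap.congr_fun hs x⟩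

theorem exists_leftInverse_toKer (hI : I ^ 2 = ⊥) (hσ2 : RingHom.ker σ ^ 2 = ⊥) (T : Finset A)
    (hT : Ideal.span (T : Set A) = ⊤) (hL : ∀ g ∈ T, HasLocalLift I (algebraMap A E) σ.toRingHom g) :
    ∃ β : kerSub σ →ₗ[A] I, ∀ i, β (toKer σ i) = i := by
  obtain ⟨s, hs⟩ := exists_section_cok hσ2 T hT hL
  let π : kerSub σ →ₗ[A] Cok σ := (LinearMap.range (toKer σ)).mkQ
  let d : kerSub σ →ₗ[A] kerSub σ := LinearMap.id - s ∘ₗ π
  have hd : ∀ n, d n ∈ LinearMap.range (toKer σ) := fun n => by
    rw [← Submodule.Quotient.mk_eq_zero]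
    show Submodule.Quotient.mk (n - s (π n)) = 0
    rw [Submodule.Quotient.mk_sub, hs]
    exact sub_self (π n)
  have hinj := toKer_injective hI T hT hL
  refine ⟨(LinearEquiv.ofInjective (toKer σ) hinj).symm.toLinearMap ∘ₗ d.codRestrict _ hd, fun i => ?_⟩
  have h0 : π (toKer σ i) = 0 := (Submodule.Quotient.mk_eq_zero _).2 ⟨i, rfl⟩
  have h1 : d.codRestrict _ hd (toKer σ i) = LinearEquiv.ofInjective (toKer σ) hinj i := by
    refine Subtype.ext ?_
    show toKer σ i - s (π (toKer σ i)) = _
    rw [h0, map_zero, sub_zero]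
    exact (LinearEquiv.ofInjective_apply (f := toKer σ) (h := hinj) i).symm
  rw [LinearMap.comp_apply, h1]
  exact LinearEquiv.symm_apply_apply _ _

theorem exists_retraction_algHom (hI : I ^ 2 = ⊥) (hσ2 : RingHom.ker σ ^ 2 = ⊥) (T : Finset A)
    (hT : Ideal.span (T : Set A) = ⊤) (hL : ∀ g ∈ T, HasLocalLift I (algebraMap A E) σ.toRingHom g) :
    ∃ r : E →ₐ[A] A, ∀ e, Ideal.Quotient.mk I (r e) = σ e := by
  obtain ⟨β, hβ⟩ := exists_leftInverse_toKer hI hσ2 T hT hL
  have hrep : ∀ e, ∃ a, σ e = Ideal.Quotient.mk I a := fun e =>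
    (Ideal.Quotient.mk_surjective (σ e)).imp fun a h => h.symm
  choose rep hrep using hrep
  let r : E → A := fun e => rep e + β ⟨_, sub_rep_mem (hrep e)⟩
  have hwd : ∀ e a (h : σ e = Ideal.Quotient.mk I a), r e = a + β ⟨_, sub_rep_mem h⟩ := fun e a h => by
    have hmem : a - rep e ∈ I := Ideal.Quotient.eq.1 (h.symm.trans (hrep e))
    have : (⟨_, sub_rep_mem (hrep e)⟩ : kerSub σ) = ⟨_, sub_rep_mem h⟩ + toKer σ ⟨_, hmem⟩ :=
      Subtype.ext (by
        show e - algebraMap A E (rep e) = (e - algebraMap A E a) + algebraMap A E (a - rep e)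
        rw [map_sub]; ring)
    show rep e + (β ⟨_, sub_rep_mem (hrep e)⟩ : A) = _
    rw [this, map_add, hβ, Submodule.coe_add]
    ring
  have hralg : ∀ a, r (algebraMap A E a) = a := fun a => by
    rw [hwd _ a (σ.commutes a)]
    have : (⟨_, sub_rep_mem (σ.commutes a)⟩ : kerSub σ) = 0 := Subtype.ext (sub_self _)
    rw [this, map_zero, Submodule.coe_zero, add_zero]
  have hradd : ∀ x y, r (x + y) = r x + r y := fun x y => by
    have h : σ (x + y) = Ideal.Quotient.mk I (rep x + rep y) := by rw [map_add, map_add, hrep, hrep]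
    have : (⟨_, sub_rep_mem h⟩ : kerSub σ) =
        ⟨_, sub_rep_mem (hrep x)⟩ + ⟨_, sub_rep_mem (hrep y)⟩ := Subtype.ext (by
      show x + y - algebraMap A E (rep x + rep y) =
        (x - algebraMap A E (rep x)) + (y - algebraMap A E (rep y))
      rw [map_add]; ring)
    rw [hwd _ _ h, this, map_add, Submodule.coe_add]
    show _ = (rep x + (β ⟨_, sub_rep_mem (hrep x)⟩ : A)) + (rep y + (β ⟨_, sub_rep_mem (hrep y)⟩ : A))
    ring
  have hrmul : ∀ x y, r (x * y) = r x * r y := fun x y => by
    have h : σ (x * y) = Ideal.Quotient.mk I (rep x * rep y) := by rw [map_mul, map_mul, hrep, hrep]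
    have : (⟨_, sub_rep_mem h⟩ : kerSub σ) =
        rep x • ⟨_, sub_rep_mem (hrep y)⟩ + rep y • ⟨_, sub_rep_mem (hrep x)⟩ := Subtype.ext (by
      show x * y - algebraMap A E (rep x * rep y) =
        rep x • (y - algebraMap A E (rep y)) + rep y • (x - algebraMap A E (rep x))
      have hz := mul_eq_zero_of_sq hσ2 (sub_rep_mem (hrep x)) (sub_rep_mem (hrep y))
      rw [Algebra.smul_def, Algebra.smul_def, map_mul]
      linear_combination hz)
    rw [hwd _ _ h, this, map_add, map_smul, map_smul]
    have hzero : (β ⟨_, sub_rep_mem (hrep x)⟩ : A) * (β ⟨_, sub_rep_mem (hrep y)⟩ : A) = 0 := by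
      have := Ideal.mul_mem_mul (β ⟨_, sub_rep_mem (hrep x)⟩).2 (β ⟨_, sub_rep_mem (hrep y)⟩).2
      rwa [← pow_two, hI, Ideal.mem_bot] at this
    show _ = (rep x + (β ⟨_, sub_rep_mem (hrep x)⟩ : A)) * (rep y + (β ⟨_, sub_rep_mem (hrep y)⟩ : A))
    simp only [Submodule.coe_add, SetLike.val_smul, smul_eq_mul]
    linear_combination -hzero
  refine ⟨{ toFun := r
            map_one' := by have := hralg 1; rwa [map_one] at this
            map_mul' := hrmul
            map_zero' := by have := hralg 0; rwa [map_zero] at this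
            map_add' := hradd
            commutes' := hralg }, fun e => ?_⟩
  show Ideal.Quotient.mk I (rep e + (β ⟨_, sub_rep_mem (hrep e)⟩ : A)) = σ e
  rw [map_add, Ideal.Quotient.eq_zero_iff_mem.2 (β ⟨_, sub_rep_mem (hrep e)⟩).2, add_zero, hrep]

omit [Algebra A E] in
/-- Main algebraic lemma: a square zero extension with local lifting property has a retraction. -/
theorem exists_retraction (hI : I ^ 2 = ⊥) (ι : A →+* E) (σ : E →+* A ⧸ I)
    (hσι : σ.comp ι = Ideal.Quotient.mk I) (hσ2 : RingHom.ker σ ^ 2 = ⊥) (T : Set A)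
    (hT : Ideal.span T = ⊤) (hL : ∀ g ∈ T, HasLocalLift I ι σ g) :
    ∃ r : E →+* A, r.comp ι = RingHom.id A ∧ (Ideal.Quotient.mk I).comp r = σ := by
  obtain ⟨T', hT'T, hT'⟩ := (Ideal.span_eq_top_iff_finite T).1 hT
  letI : Algebra A E := ι.toAlgebra
  let σa : E →ₐ[A] A ⧸ I := { σ with commutes' := fun a => RingHom.congr_fun hσι a }
  obtain ⟨r, hr⟩ := exists_retraction_algHom (σ := σa) hI hσ2 T' hT' fun g hg => hL g (hT'T hg)
  exact ⟨r.toRingHom, RingHom.ext fun a => r.commutes a, RingHom.ext hr⟩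

end Groth.Agent.FlatMorGeom
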